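import Groth.Agent.UnipExt.Matrix
import Groth.Prelude.Def_SGA3b
import Mathlib.RingTheory.Bialgebra.MonoidAlgebra

/-!
# Splitting of extensions of diagonalisable groups by unipotent ones
-/

universe u

namespace Groth.Agent.UnipExt

variable {k : Type u} [Field k]

theorem span_groupLike_of_isDiag {B : Type u} [CommRing B] [HopfAlgebra k B] (hB : SGA3b.IsDiag k B) :
    Submodule.span k {g : B | IsGroupLikeElem k g} = ⊤ := by
  obtain ⟨M, _, ⟨e⟩⟩ := hB
  refine eq_top_iff.mpr fun b _ => ?_
  rw [show b = e.symm (e b) from (e.symm_apply_apply b).symm]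
  induction e b using MonoidAlgebra.induction_linear with
  | zero => rw [map_zero]; exact Submodule.zero_mem _
  | add x y hx hy => rw [map_add]; exact Submodule.add_mem _ hx hy
  | single m r =>
    rw [show MonoidAlgebra.single m r = r • MonoidAlgebra.single m (1 : k) by rw [MonoidAlgebra.smul_single, smul_eq_mul, mul_one],
      map_smul]
    exact Submodule.smul_mem _ _ (Submodule.subset_span
      (isGroupLike_map (ψ := e.symm.toBialgHom) (MonoidAlgebra.isGroupLikeElem_single_one m)))

theorem exists_bialg_retraction [IsAlgClosed k] {A B : Type u} [CommRing A] [HopfAlgebra k A]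
    [Algebra.FiniteType k A] [CommRing B] [HopfAlgebra k B]
    (hB : Submodule.span k {g : B | IsGroupLikeElem k g} = ⊤) (ψ : B →ₐc[k] A) (hψ : Function.Injective ψ)
    (J : Ideal A) [J.IsHopfIdeal k]
    (hJ : J = Ideal.map (ψ : B →+* A) (RingHom.ker (Bialgebra.counitAlgHom k B)))
    (hU : HopfRep.IsUnipotent k (A ⧸ J)) : ∃ r : A →ₐc[k] B, r.comp ψ = BialgHom.id k B := by
  haveI := finiteType_of_injective hB ψ hψ
  obtain ⟨n, xs, ht⟩ := exists_isTower hB ψ hψ J hJ hU
  obtain ⟨r, hr⟩ := exists_retraction_of_tower hB n A ψ xs ht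
  exact ⟨r, DFunLike.ext _ _ hr⟩

end Groth.Agent.UnipExt
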