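import Groth.Agent.UnipExt.Main
import Groth.Agent.ComodLib.Trig

/-!
# Trigonalizable groups are extensions of diagonalisable groups by unipotent ones
-/

universe u

open TensorProduct

namespace Groth.Agent.UnipExt

open Groth.Agent.ComodLib

variable {k : Type u} [Field k] {A : Type u} [CommRing A] [HopfAlgebra k A]

theorem exists_eigen_of_isTrigonalizable (hT : HopfRep.IsTrigonalizable k A) (V : Type u) [AddCommGroup V]
    [Module k V] [c : HopfRep.Comod k A V] [Module.Finite k V] [Nontrivial V] :
    ∃ (g : A) (v : V), IsGroupLikeElem k g ∧ v ≠ 0 ∧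
      HopfRep.Comod.coact (k := k) (A := A) v = v ⊗ₜ[k] g := by
  obtain ⟨S, -, hSf, hS, hS0, hmin⟩ := exists_simple_le (isSubcomod_top (k := k) (C := A) (V := V)) top_ne_bot
  letI cS := ComodSub.Comod.restr c S hS
  have h1 : Module.finrank k S = 1 := hT S hSf (isSimpleComod_restr hS hS0 hmin)
  let b := Module.finBasisOfFinrankEq k S h1
  have hco := coact_basis (A := A) b 0
  rw [Fin.sum_univ_one] at hco
  have hcomul := comul_coeffMatrix (A := A) b 0 0
  rw [Fin.sum_univ_one] at hcomul
  have hne : ((b 0 : S) : V) ≠ 0 := fun h => b.ne_zero 0 (Subtype.ext h)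
  refine ⟨coeffMatrix b 0 0, (b 0 : S), ⟨?_, hcomul⟩, hne, ?_⟩
  · have := LinearMap.congr_fun cS.counit_comp (b 0)
    rw [LinearMap.comp_apply, hco, LinearMap.lTensor_tmul] at this
    have h2 := congrArg (fun z => b.repr (TensorProduct.rid k S z) 0) this
    simpa using h2
  · rw [← ComodSub.restr_coact_coe c S hS, hco, LinearMap.rTensor_tmul, Submodule.subtype_apply]

theorem trigonal_iff [Algebra.FiniteType k A] :
    HopfRep.IsTrigonalizable k A ↔
      ∃ (B : Type u) (_ : CommRing B) (_ : HopfAlgebra k B) (ψ : B →ₐc[k] A) (J : Ideal A) (_ : J.IsHopfIdeal k),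
        Function.Injective ψ ∧ HopfRep.IsDiagonalizable k B ∧
          J = Ideal.map (ψ : B →+* A) (RingHom.ker (Bialgebra.counitAlgHom k B)) ∧
          HopfRep.IsUnipotent k (A ⧸ J) := by
  constructor
  · intro hT
    let S : Submonoid A :=
      { carrier := {a | IsGroupLikeElem k a}
        one_mem' := IsGroupLikeElem.one
        mul_mem' := fun ha hb => ha.mul hb }
    let C : Subalgebra k A := Algebra.adjoin k (S : Set A)
    have hsub : ∀ g, IsGroupLikeElem k g → g ∈ C := fun g hg => Algebra.subset_adjoin hg
    have hC : SGA3.IsHopfSubalgebra k A C := by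
      constructor
      · intro y hy
        have : C ≤ ((Algebra.TensorProduct.map C.val C.val).range).comap (Bialgebra.comulAlgHom k A) :=
          Algebra.adjoin_le fun t (ht : IsGroupLikeElem k t) =>
            ⟨⟨t, hsub t ht⟩ ⊗ₜ ⟨t, hsub t ht⟩, ht.comul_eq_tmul_self.symm⟩
        obtain ⟨z, hz⟩ := this hy
        exact ⟨z, hz⟩
      · intro y hy
        exact (Algebra.adjoin_le (S := C.comap (HopfAlgebra.antipodeAlgHom k A))
          fun t (ht : IsGroupLikeElem k t) => hsub _ ht.antipode) hy
    letI := GrpSchLib.SubHopf.hopf C hC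
    let ψ : C →ₐc[k] A :=
      BialgHom.ofAlgHom C.val rfl (AlgHom.ext fun c => GrpSchLib.SubHopf.map_comulRes C hC c)
    have hψ : Function.Injective ψ := Subtype.val_injective
    have hgl : ∀ (g : A) (hg : IsGroupLikeElem k g), IsGroupLikeElem k (⟨g, hsub g hg⟩ : C) := fun g hg =>
      ⟨hg.counit_eq_one, GrpSchLib.SubHopf.map_val_injective _ _ Subtype.val_injective Subtype.val_injective
        ((GrpSchLib.SubHopf.map_comulRes C hC _).trans hg.comul_eq_tmul_self)⟩
    have hdiag : HopfRep.IsDiagonalizable k C := by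
      refine eq_top_iff.mpr fun c _ => ?_
      have hc : (c : A) ∈ Submodule.span k (S : Set A) := by
        have := c.2
        rw [← Subalgebra.mem_toSubmodule, Algebra.adjoin_eq_span] at this
        rwa [Submonoid.closure_eq] at this
      have hle : Submodule.span k (S : Set A) ≤
          (Submodule.span k {a : C | IsGroupLikeElem k a}).map C.val.toLinearMap :=
        Submodule.span_le.mpr fun g hg => ⟨⟨g, hsub g hg⟩, Submodule.subset_span (hgl g hg), rfl⟩
      obtain ⟨c', hc', e⟩ := hle hc
      exact Subtype.val_injective e ▸ hc'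
    have hJi : (Ideal.map (ψ : C →+* A) (RingHom.ker (Bialgebra.counitAlgHom k C))).IsHopfIdeal k :=
      MultTypeLib.isHopfIdeal_map_ker ψ
    refine ⟨C, inferInstance, inferInstance, ψ, _, hJi, hψ, hdiag, rfl, ?_⟩
    set J := Ideal.map (ψ : C →+* A) (RingHom.ker (Bialgebra.counitAlgHom k C))
    have hmk : ∀ g : A, IsGroupLikeElem k g → Ideal.Quotient.mk J g = 1 := fun g hg => by
      rw [← map_one (Ideal.Quotient.mk J), Ideal.Quotient.eq]
      rw [show g - 1 = (ψ : C →+* A) (⟨g, hsub g hg⟩ - 1) by rw [map_sub, map_one]; rfl]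
      refine Ideal.mem_map_of_mem _ ?_
      rw [RingHom.mem_ker, map_sub, map_one, sub_eq_zero]
      exact hg.counit_eq_one
    refine isUnipotent_of_filtration uniLevel_mono uniLevel_zero (eq_top_iff.mpr fun a' _ => ?_)
      fun r => map_comul_uniLevel r
    obtain ⟨a, rfl⟩ := Ideal.Quotient.mk_surjective a'
    obtain ⟨U, hUf, haU, hUs⟩ := exists_finite_subcomod_mem (k := k) (C := A) (V := A) a
    letI : HopfRep.Comod k A U := ComodSub.Comod.restr (HopfRep.Comod.regular k A) U hUs
    obtain ⟨b, d, hd, htri⟩ := exists_triBasis (fun g : A => IsGroupLikeElem k g)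
      (fun V _ _ _ _ _ => exists_eigen_of_isTrigonalizable hT V) U
    let q := Ideal.Quotient.mkₐ k J
    have hM : IsUniMatrix k (fun i j => q (coeffMatrix b i j)) := by
      refine ⟨fun i j hji => ?_, fun i j => ?_⟩
      · show q (coeffMatrix b i j) = _
        rw [htri i j hji]
        split
        · exact hmk _ (hd i)
        · exact map_zero _
      · show Algebra.TensorProduct.map q q (CoalgebraStruct.comul (R := k) (coeffMatrix b i j)) = _
        rw [show CoalgebraStruct.comul (R := k) (coeffMatrix (A := A) b i j) = _ from comul_coeffMatrix b i j, map_sum]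
        rfl
    have hcoef : ((⟨a, haU⟩ : U) : A) = ∑ i, Coalgebra.counit (R := k) ((b i : U) : A) •
        TensorProduct.lid k A ((b.coord i).rTensor A (HopfRep.Comod.coact (k := k) (A := A) (⟨a, haU⟩ : U))) := by
      generalize (⟨a, haU⟩ : U) = u
      have h := congrArg (TensorProduct.lid k A) (Coalgebra.rTensor_counit_comul (R := k) (u : A))
      rw [TensorProduct.lid_tmul, one_smul,
        show Coalgebra.comul (R := k) (u : A) = U.subtype.rTensor A (HopfRep.Comod.coact (k := k) (A := A) u) from
          (ComodSub.restr_coact_coe (HopfRep.Comod.regular k A) U hUs u).symm] at h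
      refine h.symm.trans ?_
      induction HopfRep.Comod.coact (k := k) (A := A) u using TensorProduct.induction_on with
      | zero => simp
      | add p q hp hq => simp only [map_add, smul_add, Finset.sum_add_distrib, hp, hq]
      | tmul x c =>
        simp only [LinearMap.rTensor_tmul, TensorProduct.lid_tmul, Module.Basis.coord_apply, smul_smul, ← Finset.sum_smul]
        congr 1
        conv_lhs => rw [← b.sum_repr x]
        simp only [map_sum, map_smul, Submodule.coe_sum, Submodule.coe_smul, smul_eq_mul, mul_comm]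
        simp [Submodule.subtype_apply, mul_comm]
    show q ((⟨a, haU⟩ : U) : A) ∈ _
    rw [hcoef, map_sum]
    refine Submodule.sum_mem _ fun i _ => ?_
    rw [map_smul]
    refine Submodule.smul_mem _ _ ?_
    rw [counit_smul_coeffMatrix, map_sum]
    refine Submodule.sum_mem _ fun j _ => ?_
    rw [map_smul]
    exact Submodule.smul_mem _ _ (Submodule.mem_iSup_of_mem (j : ℕ) (mem_uniLevel hM (by omega)))
  · rintro ⟨B, _, _, ψ, J, _, hψ, hB, hJ, hU⟩ V _ _ c hfin hsimple
    haveI := finiteType_of_injective hB ψ hψ
    haveI := hsimple.1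
    obtain ⟨g, v, -, hv, hv'⟩ := exists_eigen hB ψ hψ J hJ hU V
    have hsub : HopfRep.IsSubcomod (k := k) (A := A) (Submodule.span k {v}) := by
      intro w hw
      obtain ⟨a, rfl⟩ := Submodule.mem_span_singleton.mp hw
      exact ⟨(⟨v, Submodule.mem_span_singleton_self v⟩ : Submodule.span k {v}) ⊗ₜ (a • ψ g), by
        rw [LinearMap.rTensor_tmul, Submodule.subtype_apply, map_smul, hv', TensorProduct.tmul_smul,
          TensorProduct.smul_tmul']⟩
    have htop : Submodule.span k {v} = ⊤ :=
      (hsimple.2 _ hsub).resolve_left fun h => hv (by simpa using h)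
    rw [← finrank_top, ← htop, finrank_span_singleton hv]

end Groth.Agent.UnipExt
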