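import Groth.Agent.UnipExt.Main
import Groth.Agent.UnipConst.Basic
import Groth.Agent.UnipCrit.Crit
import Groth.Agent.ComodLib.PrimDiag
import Groth.Agent.ComodLib.PrimCriteria
import Groth.Agent.S7951
import Groth.Prelude.Def_SGA3b
import Mathlib.RingTheory.Etale.Field
import Mathlib.RingTheory.Bialgebra.TensorProduct
import Mathlib.LinearAlgebra.TensorProduct.RightExactness
import Mathlib.RingTheory.FiniteType

/-!
# Splitting over a connected group of multiplicative type when the kernel is étale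
-/

universe u

open TensorProduct WithConv

namespace Groth.Agent.UnipExt

variable {k : Type u} [Field k]

/-- A group of multiplicative type is diagonalisable over an algebraic closure. -/
theorem span_groupLike_algClosure {B : Type u} [CommRing B] [HopfAlgebra k B] (hB : SGA3b.IsMultTypeConst k B) :
    Submodule.span (AlgebraicClosure k)
      {g : AlgebraicClosure k ⊗[k] B | IsGroupLikeElem (AlgebraicClosure k) g} = ⊤ := by
  obtain ⟨R', _, _, hff, hdiag⟩ := hB
  haveI := hff
  haveI : Nontrivial R' := by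
    haveI := Module.FaithfullyFlat.lTensor_nontrivial k R' k
    exact (TensorProduct.rid k R').toEquiv.symm.nontrivial
  obtain ⟨m, hm⟩ := Ideal.exists_maximal R'
  letI := Ideal.Quotient.field m
  let L := R' ⧸ m
  have hd := span_groupLike_of_isDiag (MultTypeLib.isDiag_baseChange R' L hdiag)
  haveI : Coalgebra.IsCocomm L (L ⊗[k] B) := ComodLib.PrimDiag.isCocomm_of_span hd
  haveI : Coalgebra.IsCocomm k B := ComodLib.PrimDiag.isCocomm_of_baseChange (K := L) inferInstance
  exact ComodLib.PrimDiag.span_groupLike_eq_top (ComodLib.PrimDiag.noPrim_baseChange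
    (ComodLib.PrimDiag.noPrim_of_baseChange (ComodLib.PrimDiag.noPrim_of_span hd)))

/-- A Noetherian algebra with a rational point has an idempotent cutting out a connected piece at the point. -/
theorem exists_connected_idem {A : Type u} [CommRing A] [Algebra k A] [IsNoetherianRing A] (ε : A →ₐ[k] k) :
    ∃ e : A, IsIdempotentElem e ∧ ε e = 1 ∧
      ∀ f : A ⧸ Ideal.span ({1 - e} : Set A), IsIdempotentElem f → f = 0 ∨ f = 1 := by
  let T : Set (Ideal A) := {I | ∃ e : A, IsIdempotentElem e ∧ ε e = 1 ∧ I = Ideal.span ({1 - e} : Set A)}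
  obtain ⟨_, ⟨e, he, hε, rfl⟩, hmax⟩ := set_has_maximal_iff_noetherian.mpr (inferInstance : IsNoetherian A A) T
    ⟨_, 1, IsIdempotentElem.one, map_one ε, rfl⟩
  refine ⟨e, he, hε, fun f hf => ?_⟩
  let mk := Ideal.Quotient.mk (Ideal.span ({1 - e} : Set A))
  have hmke : mk e = 1 := by
    have h : mk (1 - e) = 0 := Ideal.Quotient.eq_zero_iff_mem.mpr (Ideal.mem_span_singleton_self _)
    rw [map_sub, map_one, sub_eq_zero] at h
    exact h.symm
  have key : ∀ a : A, IsIdempotentElem (mk a) → IsIdempotentElem (e * a) := fun a ha => by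
    have h : a * a - a ∈ Ideal.span ({1 - e} : Set A) := by
      rw [← Ideal.Quotient.eq_zero_iff_mem, map_sub, map_mul]
      exact sub_eq_zero.mpr ha
    obtain ⟨c, hc⟩ := Ideal.mem_span_singleton'.mp h
    show e * a * (e * a) = e * a
    rw [mul_mul_mul_comm, he.eq, show a * a = a + c * (1 - e) by rw [hc]; ring, mul_add, mul_left_comm, mul_sub,
      mul_one, he.eq, sub_self, mul_zero, add_zero]
  have one : ∀ a : A, IsIdempotentElem (mk a) → ε (e * a) = 1 → mk a = 1 := by
    intro a ha h1
    have hle : Ideal.span ({1 - e} : Set A) ≤ Ideal.span ({1 - e * a} : Set A) := by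
      refine (Ideal.span_singleton_le_iff_mem _).mpr (Ideal.mem_span_singleton'.mpr ⟨1 - e, ?_⟩)
      rw [mul_sub, mul_one, ← mul_assoc, sub_mul, one_mul, he.eq, sub_self, zero_mul, sub_zero]
    have heq := eq_of_le_of_not_lt hle fun hlt => hmax _ ⟨e * a, key a ha, h1, rfl⟩ hlt
    have h := Ideal.Quotient.eq_zero_iff_mem.mpr (heq ▸ Ideal.mem_span_singleton_self (1 - e * a) :
      1 - e * a ∈ Ideal.span ({1 - e} : Set A))
    change mk (1 - e * a) = 0 at h
    rw [map_sub, map_one, map_mul, hmke, one_mul, sub_eq_zero] at h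
    exact h.symm
  obtain ⟨a, rfl⟩ := Ideal.Quotient.mk_surjective f
  rcases IsIdempotentElem.iff_eq_zero_or_one.mp ((key a hf).map ε) with h | h
  · left
    have h' := one (1 - a) (by rw [map_sub, map_one]; exact hf.one_sub)
      (by rw [map_mul, map_sub, hε, map_one, one_mul] at *; rw [h, sub_zero])
    rw [map_sub, map_one] at h'
    exact sub_eq_self.mp h'
  · exact Or.inr (one a hf h)

/-- A map from a finite étale algebra to a connected algebra with a point is constant. -/
theorem etale_const {K : Type u} [Field K] [IsAlgClosed K] {D : Type u} [CommRing D] [Algebra K D] [Algebra.Etale K D]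
    {R : Type u} [CommRing R] [Algebra K R] (hR : ∀ f : R, IsIdempotentElem f → f = 0 ∨ f = 1) (εR : R →ₐ[K] K)
    (φ : D →ₐ[K] R) (d : D) : φ d = algebraMap K R (εR (φ d)) := by
  classical
  obtain ⟨I, hI, Ai, iA, iB, e, hAi⟩ := (Algebra.Etale.iff_exists_algEquiv_prod K D).mp inferInstance
  letI := Fintype.ofFinite I
  suffices h : φ d ∈ (Algebra.ofId K R).range by
    obtain ⟨c, hc⟩ := h
    rw [← hc]
    simp
  rw [← e.symm_apply_apply d, ← Finset.univ_sum_single (e d), map_sum, map_sum]
  refine Subalgebra.sum_mem _ fun i _ => ?_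
  haveI := (hAi i).1
  haveI : Algebra.IsIntegral K (Ai i) := Algebra.IsIntegral.of_finite K (Ai i)
  obtain ⟨c, hc⟩ := (IsAlgClosed.algebraMap_bijective_of_isIntegral (k := K) (K := Ai i)).2 (e d i)
  rw [← hc, Algebra.algebraMap_eq_smul_one, Pi.single_smul, map_smul, map_smul]
  refine Subalgebra.smul_mem _ ?_ _
  have hid : IsIdempotentElem (φ (e.symm (Pi.single i 1))) := by
    show _ * _ = _
    rw [← map_mul, ← map_mul, ← Pi.single_mul, mul_one]
  rcases hR _ hid with h | h <;> rw [h]
  exacts [Subalgebra.zero_mem _, Subalgebra.one_mem _]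

/-- Points of `A` at the connected component factor through the retraction. -/
theorem proj_eq_of_etale {K : Type u} [Field K] [IsAlgClosed K] {A B : Type u} [CommRing A] [HopfAlgebra K A]
    [CommRing B] [HopfAlgebra K B] (ψ : B →ₐc[K] A) (r : A →ₐc[K] B) (hr : ∀ b, r (ψ b) = b)
    {D : Type u} [CommRing D] [Algebra K D] [Algebra.Etale K D] (q : A →ₐ[K] D) (hq : Function.Surjective q)
    (hker : RingHom.ker q ≤ Ideal.map (ψ : B →+* A) (RingHom.ker (Bialgebra.counitAlgHom K B)))
    {R : Type u} [CommRing R] [Algebra K R] (hR : ∀ f : R, IsIdempotentElem f → f = 0 ∨ f = 1)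
    (εR : R →ₐ[K] K) (π : A →ₐ[K] R) (hεπ : εR.comp π = Bialgebra.counitAlgHom K A) (a : A) :
    π a = π (ψ (r a)) := by
  let p : A →ₐ[K] A := (ψ : B →ₐ[K] A).comp (r : A →ₐ[K] B)
  let phi : A →ₐ[K] A := (toConv (AlgHom.id K A) * toConv (p.comp (HopfAlgebra.antipodeAlgHom K A))).ofConv
  have hdec : toConv phi * toConv p = toConv (AlgHom.id K A) := by
    show toConv (AlgHom.id K A) * toConv (p.comp (HopfAlgebra.antipodeAlgHom K A)) * toConv p = _
    rw [mul_assoc, show toConv (p.comp (HopfAlgebra.antipodeAlgHom K A)) * toConv p = 1 from inv_mul_cancel (toConv p),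
      mul_one]
  have hpψ : p.comp (ψ : B →ₐ[K] A) = (ψ : B →ₐ[K] A) := AlgHom.ext fun b => congrArg ψ (hr b)
  have hphiψ : phi.comp (ψ : B →ₐ[K] A) = (1 : WithConv (B →ₐ[K] A)).ofConv := by
    show AlgHom.comp _ _ = _
    rw [AlgHom.convMul_comp_bialgHom_distrib]
    simp only [ofConv_toConv, AlgHom.id_comp, AlgHom.comp_assoc]
    rw [show (HopfAlgebra.antipodeAlgHom K A).comp (ψ : B →ₐ[K] A) =
      (ψ : B →ₐ[K] A).comp (HopfAlgebra.antipodeAlgHom K B) from AlgHom.ext fun b =>
        GrpSchLib.HopfGalois.antipode_bialgHom ψ b, ← AlgHom.comp_assoc, hpψ]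
    exact congrArg WithConv.ofConv (mul_inv_cancel (toConv (ψ : B →ₐ[K] A)))
  have hphiJ : RingHom.ker q ≤ RingHom.ker (π.comp phi) := by
    refine hker.trans (Ideal.map_le_iff_le_comap.mpr fun b hb => ?_)
    show π (phi (ψ b)) = 0
    rw [show phi (ψ b) = (1 : WithConv (B →ₐ[K] A)).ofConv b from AlgHom.congr_fun hphiψ b]
    show π (algebraMap K A (Coalgebra.counit (R := K) b)) = 0
    rw [show Coalgebra.counit (R := K) b = (0 : K) from hb, map_zero, map_zero]
  let φ : D →ₐ[K] R := AlgHom.liftOfSurjective q hq (π.comp phi) hphiJ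
  have hφ : ∀ x, φ (q x) = π (phi x) := fun x => AlgHom.liftOfSurjective_apply _ hq _ hphiJ x
  have hεphi : (Bialgebra.counitAlgHom K A).comp phi = Bialgebra.counitAlgHom K A := by
    show AlgHom.comp _ _ = _
    rw [AlgHom.comp_convMul_distrib]
    simp only [ofConv_toConv, AlgHom.comp_id]
    rw [← AlgHom.comp_assoc, show (Bialgebra.counitAlgHom K A).comp p = Bialgebra.counitAlgHom K A from
      AlgHom.ext fun x => (CoalgHomClass.counit_comp_apply ψ (r x)).trans (CoalgHomClass.counit_comp_apply r x)]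
    exact congrArg WithConv.ofConv (mul_inv_cancel (toConv (Bialgebra.counitAlgHom K A))) |>.trans rfl
  have hπphi : π.comp phi = (1 : WithConv (A →ₐ[K] R)).ofConv := AlgHom.ext fun x => by
    refine ((hφ x).symm.trans (etale_const hR εR φ (q x))).trans ?_
    rw [hφ]
    show algebraMap K R ((εR.comp π) (phi x)) = _
    rw [hεπ, show Bialgebra.counitAlgHom K A (phi x) = Bialgebra.counitAlgHom K A x from AlgHom.congr_fun hεphi x]
    rfl
  have h := congrArg (fun f => π.comp (WithConv.ofConv f)) hdec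
  simp only [AlgHom.comp_convMul_distrib, ofConv_toConv, AlgHom.comp_id, hπphi, toConv_ofConv, one_mul] at h
  exact (AlgHom.congr_fun h a).symm

theorem existsUnique_retraction {A B : Type u} [CommRing A] [HopfAlgebra k A]
    [Algebra.FiniteType k A] [CommRing B] [HopfAlgebra k B] [Algebra.FiniteType k B]
    (hB : SGA3b.IsMultTypeConst k B) (ψ : B →ₐc[k] A) (hψ : Function.Injective ψ) (J : Ideal A) [J.IsHopfIdeal k]
    (hJ : J = Ideal.map (ψ : B →+* A) (RingHom.ker (Bialgebra.counitAlgHom k B)))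
    (hU : HopfRep.IsUnipotent k (A ⧸ J)) [Algebra.Etale k (A ⧸ J)]
    (hH : ∀ e : B, IsIdempotentElem e → e = 0 ∨ e = 1) :
    ∃! r : A →ₐc[k] B, r.comp ψ = BialgHom.id k B := by
  classical
  let K := AlgebraicClosure k
  haveI : IsNoetherianRing A := Algebra.FiniteType.isNoetherianRing k A
  obtain ⟨e, he, hεe, hconn⟩ := exists_connected_idem (Bialgebra.counitAlgHom k A)
  let I : Ideal A := Ideal.span ({1 - e} : Set A)
  let π : A →ₐ[k] A ⧸ I := Ideal.Quotient.mkₐ k I
  let ε₀ : A ⧸ I →ₐ[k] k := Ideal.Quotient.liftₐ I (Bialgebra.counitAlgHom k A) fun x hx => by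
    obtain ⟨b, rfl⟩ := Ideal.mem_span_singleton'.mp hx
    rw [map_mul, map_sub, map_one, hεe, sub_self, mul_zero]
  let ψK : K ⊗[k] B →ₐc[K] K ⊗[k] A := Bialgebra.TensorProduct.map (BialgHom.id K K) ψ
  have hψK : Function.Injective ψK := Module.Flat.lTensor_preserves_injective_linearMap (M := K)
    (ψ : B →ₐ[k] A).toLinearMap hψ
  let q : K ⊗[k] A →ₐ[K] K ⊗[k] (A ⧸ J) := Algebra.TensorProduct.map (AlgHom.id K K) (Ideal.Quotient.mkₐ k J)
  have hq : Function.Surjective q := Algebra.TensorProduct.map_surjective (AlgHom.id K K) (Ideal.Quotient.mkₐ k J)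
    Function.surjective_id Ideal.Quotient.mk_surjective
  let JK : Ideal (K ⊗[k] A) := Ideal.map (ψK : K ⊗[k] B →+* K ⊗[k] A) (RingHom.ker (Bialgebra.counitAlgHom K (K ⊗[k] B)))
  haveI hJK : JK.IsHopfIdeal K := MultTypeLib.isHopfIdeal_map_ker ψK
  have hker : RingHom.ker q ≤ JK := by
    have h := Algebra.TensorProduct.lTensor_ker (A := K) (Ideal.Quotient.mkₐ k J) Ideal.Quotient.mk_surjective
    intro x hx
    have hx' : x ∈ RingHom.ker (Algebra.TensorProduct.map (AlgHom.id k K) (Ideal.Quotient.mkₐ k J)) := hx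
    rw [h, show RingHom.ker (Ideal.Quotient.mkₐ k J) = J from Ideal.Quotient.mkₐ_ker k J, hJ] at hx'
    refine (Ideal.map_le_iff_le_comap.mpr (Ideal.map_le_iff_le_comap.mpr fun b hb => ?_)) hx'
    refine Ideal.mem_map_of_mem (ψK : K ⊗[k] B →+* K ⊗[k] A) (x := (1 : K) ⊗ₜ[k] b) ?_
    show Coalgebra.counit (R := K) ((1 : K) ⊗ₜ[k] b) = 0
    rw [TensorProduct.counit_tmul, show Coalgebra.counit (R := k) b = (0 : k) from hb, zero_smul]
  have hUK : HopfRep.IsUnipotent K ((K ⊗[k] A) ⧸ JK) := by
    haveI : Algebra.FiniteType k (A ⧸ J) :=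
      Algebra.FiniteType.of_surjective (Ideal.Quotient.mkₐ k J) Ideal.Quotient.mk_surjective
    let f : K ⊗[k] (A ⧸ J) →ₐ[K] (K ⊗[k] A) ⧸ JK := AlgHom.liftOfSurjective q hq (Ideal.Quotient.mkₐ K JK)
      (fun x hx => Ideal.Quotient.eq_zero_iff_mem.mpr (hker hx))
    have hf : ∀ x, f (q x) = Ideal.Quotient.mkₐ K JK x := fun x => AlgHom.liftOfSurjective_apply _ _ _ _ x
    let qc : K ⊗[k] A →ₐc[K] K ⊗[k] (A ⧸ J) :=
      Bialgebra.TensorProduct.map (BialgHom.id K K) (Bialgebra.Quotient.mkBialgHom J : A →ₐc[k] A ⧸ J)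
    let mc : K ⊗[k] A →ₐc[K] (K ⊗[k] A) ⧸ JK := Bialgebra.Quotient.mkBialgHom JK
    refine UnipCrit.isUnipotent_of_surjective (BialgHom.ofAlgHom f (AlgHom.ext fun y => ?_) (AlgHom.ext fun y => ?_))
      (fun z => ?_) ((Groth.Agent.S7951.result k K (A ⧸ J)).mp hU)
    · obtain ⟨x, rfl⟩ := hq y
      show Coalgebra.counit (R := K) (f (q x)) = Coalgebra.counit (R := K) (qc x)
      rw [hf, CoalgHomClass.counit_comp_apply qc]
      exact CoalgHomClass.counit_comp_apply mc x
    · obtain ⟨x, rfl⟩ := hq y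
      show Algebra.TensorProduct.map f f (Coalgebra.comul (R := K) (qc x)) = Coalgebra.comul (R := K) (f (q x))
      rw [← CoalgHomClass.map_comp_comul_apply qc, hf, show Ideal.Quotient.mkₐ K JK x = mc x from rfl,
        ← CoalgHomClass.map_comp_comul_apply mc]
      induction Coalgebra.comul (R := K) x using TensorProduct.induction_on with
      | zero => simp
      | tmul a b =>
        simp only [TensorProduct.map_tmul, Algebra.TensorProduct.map_tmul]
        show f (q a) ⊗ₜ[K] f (q b) = _
        rw [hf, hf]; rfl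
      | add a b ha hb => simp only [map_add, ha, hb]
    · obtain ⟨x, rfl⟩ := Ideal.Quotient.mk_surjective z
      exact ⟨q x, hf x⟩
  obtain ⟨rK, hrK⟩ := exists_bialg_retraction (span_groupLike_algClosure hB) ψK hψK JK rfl hUK
  have hrKψ : ∀ b, rK (ψK b) = b := fun b => DFunLike.congr_fun hrK b
  let R := K ⊗[k] (A ⧸ I)
  let πK : K ⊗[k] A →ₐ[K] R := Algebra.TensorProduct.map (AlgHom.id K K) π
  let εR : R →ₐ[K] K :=
    (Algebra.TensorProduct.rid k K K).toAlgHom.comp (Algebra.TensorProduct.map (AlgHom.id K K) ε₀)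
  have hεπ : εR.comp πK = Bialgebra.counitAlgHom K (K ⊗[k] A) := AlgHom.ext fun x => by
    show εR (πK x) = Coalgebra.counit (R := K) x
    induction x using TensorProduct.induction_on with
    | zero => simp
    | tmul c a =>
      show TensorProduct.rid k K (c ⊗ₜ[k] Bialgebra.counitAlgHom k A a) = _
      rw [TensorProduct.rid_tmul, TensorProduct.counit_tmul, CommSemiring.counit_apply]
      rfl
    | add a b ha hb => simp only [map_add, ha, hb]
  have hproj : ∀ x, πK x = πK (ψK (rK x)) := fun x =>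
    proj_eq_of_etale ψK rK hrKψ q hq hker (UnipConst.idempotents_baseChange ε₀ hconn K) εR πK hεπ x
  have hBK := UnipConst.idempotents_baseChange (Bialgebra.counitAlgHom k B) hH K
  have hrI : ∀ x, πK x = 0 → rK x = 0 := by
    have h1e : rK ((1 : K) ⊗ₜ[k] (1 - e)) = 0 := by
      have hid : IsIdempotentElem ((1 : K) ⊗ₜ[k] (1 - e)) := he.one_sub.map (Algebra.TensorProduct.includeRight : A →ₐ[k] K ⊗[k] A)
      refine (hBK _ (hid.map (rK : K ⊗[k] A →ₐ[K] K ⊗[k] B))).resolve_right fun h1 => ?_
      have h2 := congrArg (Coalgebra.counit (R := K)) h1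
      rw [Bialgebra.counit_one, show Coalgebra.counit (R := K) ((rK : K ⊗[k] A →ₐ[K] K ⊗[k] B) ((1 : K) ⊗ₜ[k] (1 - e))) = _ from
        CoalgHomClass.counit_comp_apply rK _, TensorProduct.counit_tmul,
        show Coalgebra.counit (R := k) (1 - e) = (0 : k) by
          show Bialgebra.counitAlgHom k A (1 - e) = 0
          rw [map_sub, map_one, hεe, sub_self], zero_smul] at h2
      exact zero_ne_one h2
    intro x hx
    have hx' : x ∈ RingHom.ker (Algebra.TensorProduct.map (AlgHom.id k K) π) := hx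
    rw [Algebra.TensorProduct.lTensor_ker π Ideal.Quotient.mk_surjective, show RingHom.ker π = I from Ideal.Quotient.mkₐ_ker k I, Ideal.map_span,
      Set.image_singleton] at hx'
    obtain ⟨c, rfl⟩ := Ideal.mem_span_singleton'.mp hx'
    rw [map_mul, show rK ((Algebra.TensorProduct.includeRight : A →ₐ[k] K ⊗[k] A) (1 - e)) = 0 from h1e, mul_zero]
  let j : B →ₐ[k] A ⧸ I := π.comp (ψ : B →ₐ[k] A)
  have hjK : ∀ y, πK (ψK y) = (j.toLinearMap.lTensor K) y := fun y => by
    induction y using TensorProduct.induction_on with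
    | zero => simp
    | tmul c b => rfl
    | add a b ha hb => simp only [map_add, ha, hb]
  have hjinjK : Function.Injective (j.toLinearMap.lTensor K) := by
    refine (injective_iff_map_eq_zero _).mpr fun y hy => ?_
    rw [← hjK] at hy
    rw [← hrKψ y]
    exact hrI _ hy
  have hjinj : Function.Injective j := fun a b hab => by
    refine Algebra.TensorProduct.includeRight_injective (R := k) (A := K) (algebraMap k K).injective (hjinjK ?_)
    simp [hab]
  have hjsurj : Function.Surjective j := by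
    refine (Module.FaithfullyFlat.lTensor_surjective_iff_surjective k K j.toLinearMap).mp fun y => ?_
    obtain ⟨x, rfl⟩ := (Algebra.TensorProduct.map_surjective (AlgHom.id K K) π Function.surjective_id
      Ideal.Quotient.mk_surjective) y
    exact ⟨rK x, (hjK _).symm.trans (hproj x).symm⟩
  let je := AlgEquiv.ofBijective j ⟨hjinj, hjsurj⟩
  let r₀ : A →ₐ[k] B := je.symm.toAlgHom.comp π
  have hjr : ∀ a, π (ψ (r₀ a)) = π a := fun a => je.apply_symm_apply (π a)
  have hr₀K : ∀ a, rK ((1 : K) ⊗ₜ[k] a) = (1 : K) ⊗ₜ[k] r₀ a := fun a => hjinjK (by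
    rw [← hjK, ← hproj, LinearMap.lTensor_tmul]
    exact congrArg (fun t => (1 : K) ⊗ₜ[k] t) (hjr a).symm)
  have hr₀ψ : ∀ b, r₀ (ψ b) = b := fun b => je.symm_apply_apply b
  let r : A →ₐc[k] B := BialgHom.ofAlgHom r₀
    (AlgHom.ext fun a => (algebraMap k K).injective (by
      have h := CoalgHomClass.counit_comp_apply rK ((1 : K) ⊗ₜ[k] a)
      rw [hr₀K, TensorProduct.counit_tmul, TensorProduct.counit_tmul] at h
      simpa [Algebra.algebraMap_eq_smul_one] using h))
    (AlgHom.ext fun a => by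
      apply Algebra.TensorProduct.includeRight_injective (R := k) (A := K) (algebraMap k K).injective
      apply (AlgebraTensorModule.distribBaseChange k K B B).injective
      have h := CoalgHomClass.map_comp_comul_apply rK ((1 : K) ⊗ₜ[k] a)
      rw [hr₀K, ComodLib.PrimDiag.comul_one_tmul, ComodLib.PrimDiag.comul_one_tmul] at h
      refine Eq.trans ?_ h
      show AlgebraTensorModule.distribBaseChange k K B B ((1 : K) ⊗ₜ[k]
        Algebra.TensorProduct.map r₀ r₀ (Coalgebra.comul (R := k) a)) = _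
      induction Coalgebra.comul (R := k) a using TensorProduct.induction_on with
      | zero => simp
      | tmul x y =>
        simp [AlgebraTensorModule.distribBaseChange, hr₀K]
        rfl
      | add x y hx hy => simp only [map_add, TensorProduct.tmul_add, hx, hy])
  refine ⟨r, DFunLike.ext _ _ hr₀ψ, fun r' hr' => DFunLike.ext _ _ fun a => ?_⟩
  have hr'ψ : ∀ b, r' (ψ b) = b := fun b => DFunLike.congr_fun hr' b
  have h1e : r' (1 - e) = 0 := by
    refine (hH _ (he.one_sub.map (r' : A →ₐ[k] B))).resolve_right fun h1 => ?_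
    have h2 := congrArg (Bialgebra.counitAlgHom k B) h1
    rw [map_one, show Bialgebra.counitAlgHom k B ((r' : A →ₐ[k] B) (1 - e)) = Bialgebra.counitAlgHom k A (1 - e) from
      CoalgHomClass.counit_comp_apply r' _, map_sub, map_one, hεe, sub_self] at h2
    exact zero_ne_one h2
  obtain ⟨c, hc⟩ := Ideal.mem_span_singleton'.mp (Ideal.Quotient.eq.mp (hjr a).symm)
  have h := congrArg r' hc
  rw [map_mul, h1e, mul_zero, map_sub, hr'ψ] at h
  exact sub_eq_zero.mp h.symm

end Groth.Agent.UnipExt
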