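import Groth.Agent.UnipExt.Tower
import Groth.Agent.ComodLib.Unitriangular
import Groth.Agent.ComodLib.Push
import Mathlib.RingTheory.Bialgebra.Quotient

/-!
# Triangular generators of an extension of a diagonalisable group by a unipotent one
-/

universe u

open TensorProduct

namespace Groth.Agent.UnipExt

open Groth.Agent.ComodLib

variable {k : Type u} [Field k] {A B : Type u} [CommRing A] [HopfAlgebra k A] [CommRing B] [HopfAlgebra k B]

theorem isGroupLike_map {ψ : B →ₐc[k] A} {g : B} (hg : IsGroupLikeElem k g) : IsGroupLikeElem k (ψ g) :=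
  ⟨by rw [CoalgHomClass.counit_comp_apply, hg.counit_eq_one], by
    rw [← CoalgHomClass.map_comp_comul_apply ψ, hg.comul_eq_tmul_self, TensorProduct.map_tmul]; rfl⟩

variable [Algebra.FiniteType k A] [Algebra.FiniteType k B]

/-- A nonzero comodule has an eigenvector for a character of the quotient `Spec B`. -/
theorem exists_eigen (hB : Submodule.span k {g : B | IsGroupLikeElem k g} = ⊤) (ψ : B →ₐc[k] A)
    (hψ : Function.Injective ψ) (J : Ideal A) [J.IsHopfIdeal k]
    (hJ : J = Ideal.map (ψ : B →+* A) (RingHom.ker (Bialgebra.counitAlgHom k B)))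
    (hU : HopfRep.IsUnipotent k (A ⧸ J)) (V : Type u) [AddCommGroup V] [Module k V] [c : HopfRep.Comod k A V]
    [Module.Finite k V] [Nontrivial V] :
    ∃ (g : B) (v : V), IsGroupLikeElem k g ∧ v ≠ 0 ∧
      HopfRep.Comod.coact (k := k) (A := A) v = v ⊗ₜ[k] ψ g := by
  classical
  let q : A →ₐ[k] A ⧸ J := Ideal.Quotient.mkₐ k J
  let π : A →ₐc[k] A ⧸ J := Bialgebra.Quotient.mkBialgHom (R := k) J
  let c' : HopfRep.Comod k (A ⧸ J) V := pushComod (π : A →ₗc[k] A ⧸ J) c
  obtain ⟨v, hv, hv0⟩ := Submodule.exists_mem_ne_zero_of_ne_bot (@hU V _ _ c' inferInstance inferInstance)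
  have hfix : q.toLinearMap.lTensor V (HopfRep.Comod.coact (k := k) (A := A) v) = v ⊗ₜ[k] (1 : A ⧸ J) := hv
  let D : A →ₗ[k] A ⊗[k] (A ⧸ J) :=
    q.toLinearMap.lTensor A ∘ₗ CoalgebraStruct.comul - (TensorProduct.mk k A (A ⧸ J)).flip 1
  have hDv : D.lTensor V (HopfRep.Comod.coact (k := k) (A := A) v) = 0 := by
    rw [LinearMap.lTensor_sub, LinearMap.sub_apply, sub_eq_zero, LinearMap.lTensor_comp, LinearMap.comp_apply,
      show (CoalgebraStruct.comul (R := k) (A := A)).lTensor V (HopfRep.Comod.coact (k := k) (A := A) v) =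
        TensorProduct.assoc k V A A ((HopfRep.Comod.coact (k := k) (A := A)).rTensor A
          (HopfRep.Comod.coact (k := k) (A := A) v)) from (LinearMap.congr_fun c.coassoc v).symm]
    have e1 : ∀ z : V ⊗[k] A, (q.toLinearMap.lTensor A).lTensor V
        (TensorProduct.assoc k V A A ((HopfRep.Comod.coact (k := k) (A := A)).rTensor A z)) =
        TensorProduct.assoc k V A (A ⧸ J) ((HopfRep.Comod.coact (k := k) (A := A)).rTensor (A ⧸ J)
          (q.toLinearMap.lTensor V z)) := fun z => by
      induction z using TensorProduct.induction_on with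
      | zero => simp
      | add p r hp hr => simp only [map_add, hp, hr]
      | tmul p r =>
        rw [LinearMap.rTensor_tmul, LinearMap.lTensor_tmul, LinearMap.rTensor_tmul]
        induction HopfRep.Comod.coact (k := k) (A := A) p using TensorProduct.induction_on with
        | zero => simp
        | add a b ha hb => simp only [TensorProduct.add_tmul, map_add, ha, hb]
        | tmul a b => simp
    rw [e1, hfix, LinearMap.rTensor_tmul]
    induction HopfRep.Comod.coact (k := k) (A := A) v using TensorProduct.induction_on with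
    | zero => simp
    | add a b ha hb => simp only [TensorProduct.add_tmul, map_add, ha, hb]
    | tmul a b => simp
  obtain ⟨z, hz⟩ := (Module.Flat.lTensor_exact V (LinearMap.exact_subtype_ker_map D) _).mp hDv
  have hDker : ∀ a, D a = 0 → ∃ b, ψ b = a := fun a ha => by
    refine mem_range_of_comul_sub_mem ψ hψ a ?_
    rw [← hJ]
    refine (Module.Flat.lTensor_exact A (f := (J.restrictScalars k).subtype) (g := q.toLinearMap) (fun x =>
      ⟨fun h => ⟨⟨x, Ideal.Quotient.eq_zero_iff_mem.mp h⟩, rfl⟩,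
       fun ⟨⟨d, hd⟩, hd'⟩ => hd' ▸ Ideal.Quotient.eq_zero_iff_mem.mpr hd⟩) _).mp ?_
    rw [map_sub, LinearMap.lTensor_tmul]
    show _ - a ⊗ₜ[k] q 1 = 0
    rw [map_one]
    exact ha
  let e : Module.Basis {g : B | IsGroupLikeElem k g} k B :=
    Module.Basis.mk linearIndepOn_isGroupLikeElem (by simp [hB])
  have he : ∀ g, e g = g.1 := fun g => Module.Basis.mk_apply _ _ g
  obtain ⟨w, hw⟩ : ∃ w : V ⊗[k] B, (ψ : B →ₐ[k] A).toLinearMap.lTensor V w =
      HopfRep.Comod.coact (k := k) (A := A) v := by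
    rw [← hz]
    clear hz
    induction z using TensorProduct.induction_on with
    | zero => exact ⟨0, by simp⟩
    | add p r hp hr =>
      obtain ⟨p', hp'⟩ := hp
      obtain ⟨r', hr'⟩ := hr
      exact ⟨p' + r', by rw [map_add, map_add, hp', hr']⟩
    | tmul p r =>
      obtain ⟨b, hb⟩ := hDker r r.2
      exact ⟨p ⊗ₜ b, congrArg (fun x : A => p ⊗ₜ[k] x) hb⟩
  obtain ⟨σ, hσ⟩ := (ψ : B →ₐ[k] A).toLinearMap.exists_leftInverse_of_injective (LinearMap.ker_eq_bot.mpr hψ)
  let φ : {g : B | IsGroupLikeElem k g} → A →ₗ[k] k := fun g => e.coord g ∘ₗ σ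
  have hφ : ∀ g h, φ g (ψ (e h)) = if h = g then 1 else 0 := fun g h => by
    show e.coord g (σ ((ψ : B →ₐ[k] A).toLinearMap (e h))) = _
    rw [show σ ((ψ : B →ₐ[k] A).toLinearMap (e h)) = e h from LinearMap.congr_fun hσ _, Module.Basis.coord_apply,
      Module.Basis.repr_self,
      Finsupp.single_apply]
  let E : V ⊗[k] B ≃ₗ[k] {g : B | IsGroupLikeElem k g} →₀ V :=
    (TensorProduct.congr (LinearEquiv.refl k V) e.repr).trans
      (TensorProduct.finsuppScalarRight k k V _)
  have hE : ∀ g, E w g = slice (φ g) (HopfRep.Comod.coact (k := k) (A := A) v) := fun g => by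
    rw [← hw]
    clear hw
    induction w using TensorProduct.induction_on with
    | zero => simp
    | add p r hp hr => simp only [map_add, Finsupp.add_apply, hp, hr]
    | tmul p r =>
      rw [LinearMap.lTensor_tmul, slice_tmul]
      show ((TensorProduct.finsuppScalarRight k k V _) (p ⊗ₜ[k] e.repr r)) g = φ g (ψ r) • p
      rw [TensorProduct.finsuppScalarRight_apply_tmul_apply]
      congr 1
      show e.coord g r = e.coord g (σ ((ψ : B →ₐ[k] A).toLinearMap r))
      rw [show σ ((ψ : B →ₐ[k] A).toLinearMap r) = r from LinearMap.congr_fun hσ _]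
  have hne : E w ≠ 0 := fun h0 => hv0 <| by
    have h1 : w = 0 := E.injective (h0.trans E.map_zero.symm)
    rw [h1, map_zero] at hw
    have h2 := LinearMap.congr_fun c.counit_comp v
    rw [LinearMap.comp_apply, ← hw, map_zero] at h2
    have h3 := congrArg (TensorProduct.rid k V) h2.symm
    simpa using h3
  obtain ⟨g, hg⟩ := Finsupp.ne_iff.mp hne
  refine ⟨g.1, slice (φ g) (HopfRep.Comod.coact (k := k) (A := A) v), g.2, hE g ▸ hg, ?_⟩
  have key : HopfRep.Comod.coact (k := k) (A := A) (slice (φ g) (HopfRep.Comod.coact (k := k) (A := A) v)) =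
      slice (φ g) ((TensorProduct.assoc k V A A).symm ((CoalgebraStruct.comul (R := k) (A := A)).lTensor V
        (HopfRep.Comod.coact (k := k) (A := A) v))) := by
    rw [show (CoalgebraStruct.comul (R := k) (A := A)).lTensor V (HopfRep.Comod.coact (k := k) (A := A) v) =
      TensorProduct.assoc k V A A ((HopfRep.Comod.coact (k := k) (A := A)).rTensor A
        (HopfRep.Comod.coact (k := k) (A := A) v)) from (LinearMap.congr_fun c.coassoc v).symm,
      LinearEquiv.symm_apply_apply, slice_rTensor]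
  rw [key, ← hw]
  clear key hw hne hg hE
  induction w using TensorProduct.induction_on with
  | zero => simp
  | add p r hp hr => simp only [map_add, TensorProduct.add_tmul, hp, hr]
  | tmul p r =>
    induction e.mem_span r using Submodule.span_induction with
    | zero => simp
    | add x y _ _ hx hy => simp only [TensorProduct.tmul_add, map_add, TensorProduct.add_tmul, hx, hy]
    | smul a x _ hx => simp only [TensorProduct.tmul_smul, map_smul, ← TensorProduct.smul_tmul', hx]
    | mem x hx =>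
    obtain ⟨h, rfl⟩ := hx
    simp only [LinearMap.lTensor_tmul]
    show slice (φ g) ((TensorProduct.assoc k V A A).symm (p ⊗ₜ[k] CoalgebraStruct.comul (R := k) (ψ (e h)))) =
      slice (φ g) (p ⊗ₜ[k] ψ (e h)) ⊗ₜ[k] ψ g.1
    rw [(isGroupLike_map (ψ := ψ) (he h ▸ h.2)).comul_eq_tmul_self, TensorProduct.assoc_symm_tmul, slice_tmul,
      slice_tmul, hφ]
    by_cases hhg : h = g
    · rw [if_pos hhg, one_smul, one_smul, hhg, he]
    · rw [if_neg hhg, zero_smul, zero_smul, TensorProduct.zero_tmul]

omit [Algebra.FiniteType k A] [Algebra.FiniteType k B] in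
/-- An adapted basis, with eigencharacters on the diagonal. -/
theorem exists_triBasis (P : A → Prop)
    (heig : ∀ (V : Type u) [AddCommGroup V] [Module k V] [HopfRep.Comod k A V] [Module.Finite k V] [Nontrivial V],
      ∃ (g : A) (v : V), P g ∧ v ≠ 0 ∧ HopfRep.Comod.coact (k := k) (A := A) v = v ⊗ₜ[k] g)
    (U : Type u) [AddCommGroup U] [Module k U] [c : HopfRep.Comod k A U] [Module.Finite k U] :
    ∃ (b : Module.Basis (Fin (Module.finrank k U)) k U) (d : Fin (Module.finrank k U) → A),
      (∀ i, P (d i)) ∧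
        ∀ i j, j ≤ i → coeffMatrix b (A := A) i j = if i = j then d i else 0 := by
  classical
  obtain ⟨F, -, h0, -, htop, hP⟩ := exists_tower (C := A)
    (fun W W' : Submodule k U => ∃ yg : U × A, P yg.2 ∧ W' = W ⊔ Submodule.span k {yg.1} ∧
      HopfRep.Comod.coact (k := k) (A := A) yg.1 - yg.1 ⊗ₜ[k] yg.2 ∈ LinearMap.range (W.subtype.rTensor A))
    fun W hW hne => by
      letI := ComodSub.Comod.quot c W hW
      have hq : Hoch.IsComodHom A W.mkQ := ComodSub.isComodHom_mkQ c W hW
      haveI : Nontrivial (U ⧸ W) := Submodule.Quotient.nontrivial_iff.mpr hne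
      obtain ⟨g, y', hg, hy0, hy'⟩ := heig (U ⧸ W)
      obtain ⟨y, rfl⟩ := W.mkQ_surjective y'
      have hyW : y ∉ W := fun h => hy0 ((Submodule.Quotient.mk_eq_zero W).mpr h)
      have hmem : HopfRep.Comod.coact (k := k) (A := A) y - y ⊗ₜ[k] g ∈
          LinearMap.range (W.subtype.rTensor A) := by
        refine (Module.Flat.rTensor_exact A (LinearMap.exact_subtype_mkQ W) _).mp ?_
        rw [map_sub, LinearMap.rTensor_tmul, sub_eq_zero]
        exact (LinearMap.congr_fun hq y).symm.trans hy'
      refine ⟨W ⊔ Submodule.span k {y}, isSubcomod_iff_actF.mpr fun φ u hu => ?_,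
        lt_of_le_of_ne le_sup_left fun h => hyW (h ▸ Submodule.mem_sup_right (Submodule.mem_span_singleton_self y)),
        (y, g), hg, rfl, hmem⟩
      obtain ⟨w, hw, x, hx, rfl⟩ := Submodule.mem_sup.mp hu
      obtain ⟨r, rfl⟩ := Submodule.mem_span_singleton.mp hx
      rw [map_add, map_smul]
      refine Submodule.add_mem _ (Submodule.mem_sup_left (subcomod_actF_mem hW φ hw)) (Submodule.smul_mem _ _ ?_)
      obtain ⟨z, hz⟩ := hmem
      have h : actF φ y = slice φ (W.subtype.rTensor A z) + φ g • y := by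
        rw [hz, map_sub, slice_tmul, sub_add_cancel]
        rfl
      rw [h]
      refine Submodule.add_mem _ (Submodule.mem_sup_left ?_)
        (Submodule.mem_sup_right (Submodule.smul_mem _ _ (Submodule.mem_span_singleton_self y)))
      rw [slice_rTensor]
      exact Submodule.coe_mem _
  let n := Module.finrank k U
  have hspan : ∀ i, (∀ m < i, F m ≠ ⊤) → Module.finrank k (F i) ≤ i := fun i => by
    induction i with
    | zero => intro _; rw [h0, finrank_bot]
    | succ m ih =>
      intro hm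
      obtain ⟨y, -, hy, -⟩ := (hP m).1 (hm m (Nat.lt_succ_self m))
      rw [hy]
      exact (Submodule.finrank_add_le_finrank_add_finrank _ _).trans
        (Nat.add_le_add (ih fun l hl => hm l (hl.trans (Nat.lt_succ_self m))) ((finrank_span_le_card _).trans (by simp)))
  have hne : ∀ i, i < n → F i ≠ ⊤ := by
    intro i
    induction i using Nat.strong_induction_on with
    | _ i ih =>
      intro hi h
      have := hspan i fun m hm => ih m hm (hm.trans hi)
      rw [h, finrank_top] at this
      exact absurd this (not_le.mpr hi)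
  choose yg hy using fun i : Fin n => (hP i).1 (hne i i.2)
  let y : Fin n → U := fun i => (yg i).1
  have hFle : ∀ m, m ≤ n → F m ≤ Submodule.span k (y '' {i : Fin n | (i : ℕ) < m}) := fun m => by
    induction m with
    | zero => intro _; rw [h0]; exact bot_le
    | succ m ih =>
      intro hm
      have h := (hy ⟨m, hm⟩).2.1
      rw [h]
      refine sup_le ((ih (by omega)).trans (Submodule.span_mono (Set.image_mono fun i hi => Nat.lt_succ_of_lt hi))) ?_
      exact (Submodule.span_singleton_le_iff_mem _ _).mpr (Submodule.subset_span ⟨⟨m, hm⟩, Nat.lt_succ_self m, rfl⟩)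
  have hspantop : ⊤ ≤ Submodule.span k (Set.range y) :=
    htop ▸ (hFle n le_rfl).trans (Submodule.span_mono (Set.image_subset_range _ _))
  let b : Module.Basis (Fin n) k U := basisOfTopLeSpanOfCardEqFinrank y hspantop (Fintype.card_fin n)
  have hb : ∀ i, b i = y i := fun i => congrFun (coe_basisOfTopLeSpanOfCardEqFinrank _ _ _) i
  refine ⟨b, fun i => (yg i).2, fun i => (hy i).1, fun i j hji => ?_⟩
  have hzero : ∀ u ∈ F j, b.repr u i = 0 := fun u hu => by
    have hu' : u ∈ Submodule.span k (y '' {l : Fin n | (l : ℕ) < j}) := hFle j j.2.le hu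
    rw [show y '' {l : Fin n | (l : ℕ) < j} = b '' {l : Fin n | (l : ℕ) < j} from
      Set.image_congr fun l _ => (hb l).symm, b.mem_span_image] at hu'
    by_contra hcon
    have h1 : (i : ℕ) < (j : ℕ) := hu' (Finsupp.mem_support_iff.mpr hcon)
    have := Fin.le_def.mp hji
    omega
  obtain ⟨z, hz⟩ := (hy j).2.2
  have h : coeffMatrix b i j = TensorProduct.lid k A ((b.coord i).rTensor A
      ((F j).subtype.rTensor A z + b j ⊗ₜ[k] (yg j).2)) := by
    rw [hz, hb, sub_add_cancel, coeffMatrix, hb]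
  rw [h, map_add, map_add, ← LinearMap.comp_apply, ← LinearMap.rTensor_comp,
    show b.coord i ∘ₗ (F j).subtype = 0 from LinearMap.ext fun u => hzero u u.2, LinearMap.rTensor_zero,
    LinearMap.zero_apply, map_zero, zero_add, LinearMap.rTensor_tmul, TensorProduct.lid_tmul,
    Module.Basis.coord_apply, Module.Basis.repr_self, Finsupp.single_apply]
  by_cases hij : i = j
  · rw [if_pos hij.symm, if_pos hij, one_smul, hij]
  · rw [if_neg (Ne.symm hij), if_neg hij, zero_smul]

/-- An adapted basis, with characters of `Spec B` on the diagonal. -/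
theorem exists_triMatrix_basis (hB : Submodule.span k {g : B | IsGroupLikeElem k g} = ⊤) (ψ : B →ₐc[k] A)
    (hψ : Function.Injective ψ) (J : Ideal A) [J.IsHopfIdeal k]
    (hJ : J = Ideal.map (ψ : B →+* A) (RingHom.ker (Bialgebra.counitAlgHom k B)))
    (hU : HopfRep.IsUnipotent k (A ⧸ J)) (U : Type u) [AddCommGroup U] [Module k U]
    [c : HopfRep.Comod k A U] [Module.Finite k U] :
    ∃ (b : Module.Basis (Fin (Module.finrank k U)) k U) (d : Fin (Module.finrank k U) → B),
      (∀ i, IsGroupLikeElem k (d i)) ∧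
        ∀ i j, j ≤ i → coeffMatrix b (A := A) i j = if i = j then ψ (d i) else 0 := by
  have heig : ∀ (V : Type u) [AddCommGroup V] [Module k V] [HopfRep.Comod k A V] [Module.Finite k V] [Nontrivial V],
      ∃ (g : A) (v : V), (∃ g₀ : B, IsGroupLikeElem k g₀ ∧ ψ g₀ = g) ∧ v ≠ 0 ∧
        HopfRep.Comod.coact (k := k) (A := A) v = v ⊗ₜ[k] g := by
    intro V _ _ _ _ _
    obtain ⟨g, v, hg, hv, hv'⟩ := exists_eigen hB ψ hψ J hJ hU V
    exact ⟨ψ g, v, ⟨g, hg, rfl⟩, hv, hv'⟩
  obtain ⟨b, d, hd, htri⟩ := exists_triBasis (fun a => ∃ g₀ : B, IsGroupLikeElem k g₀ ∧ ψ g₀ = a) heig U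
  choose g hg hgd using hd
  refine ⟨b, g, hg, fun i j hji => ?_⟩
  rw [htri i j hji, hgd i]

/-- Triangular generators exist. -/
theorem exists_isTower (hB : Submodule.span k {g : B | IsGroupLikeElem k g} = ⊤) (ψ : B →ₐc[k] A)
    (hψ : Function.Injective ψ) (J : Ideal A) [J.IsHopfIdeal k]
    (hJ : J = Ideal.map (ψ : B →+* A) (RingHom.ker (Bialgebra.counitAlgHom k B)))
    (hU : HopfRep.IsUnipotent k (A ⧸ J)) : ∃ (n : ℕ) (xs : Fin n → A), IsTower ψ xs := by
  classical
  obtain ⟨s, hs⟩ := Algebra.FiniteType.out (R := k) (A := A)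
  obtain ⟨U, hUf, hsU, hUsub⟩ := exists_finite_subcomod_le (k := k) (C := A) (V := A) s.finite_toSet
  letI cU : HopfRep.Comod k A U := ComodSub.Comod.restr (HopfRep.Comod.regular k A) U hUsub
  obtain ⟨b, dg, hdg, htri⟩ := exists_triMatrix_basis hB ψ hψ J hJ hU U
  revert htri hdg dg b
  generalize Module.finrank k U = n
  intro b dg hdg htri
  let M : Fin n → Fin n → A := fun i j => coeffMatrix b i j
  have hcomul : ∀ i j, CoalgebraStruct.comul (R := k) (M i j) = ∑ l, M i l ⊗ₜ[k] M l j :=
    fun i j => comul_coeffMatrix b i j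
  let xs : Fin (n * n) → A := fun e =>
    if h : (e : ℕ) % n + (e : ℕ) / n < n then
      M ⟨(e : ℕ) % n, (Nat.le_add_right _ _).trans_lt h⟩ ⟨(e : ℕ) % n + (e : ℕ) / n, h⟩
    else 0
  have hidx : ∀ i j : Fin n, i ≤ j → ∃ e : Fin (n * n), (e : ℕ) = ((j : ℕ) - i) * n + i ∧ xs e = M i j := by
    intro i j hij
    have h1 : ((j : ℕ) - i) * n + i < n * n := by
      have : ((j : ℕ) - i) + 1 ≤ n := by have := j.2; omega
      calc ((j : ℕ) - i) * n + i < ((j : ℕ) - i) * n + n := Nat.add_lt_add_left i.2 _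
        _ = (((j : ℕ) - i) + 1) * n := by ring
        _ ≤ n * n := Nat.mul_le_mul_right _ this
    refine ⟨⟨_, h1⟩, rfl, ?_⟩
    have hn0 : 0 < n := Nat.lt_of_le_of_lt (Nat.zero_le _) i.2
    have hm : (((j : ℕ) - i) * n + i) % n = i := by
      rw [Nat.mul_add_mod_self_right, Nat.mod_eq_of_lt i.2]
    have hd : (((j : ℕ) - i) * n + i) / n = (j : ℕ) - i := by
      rw [Nat.mul_comm, Nat.mul_add_div hn0, Nat.div_eq_of_lt i.2, add_zero]
    have hle := Fin.le_def.mp hij
    simp only [xs, hm, hd]
    rw [dif_pos (show (i : ℕ) + ((j : ℕ) - i) < n by have := j.2; omega)]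
    congr 1
    exact Fin.ext (show (i : ℕ) + ((j : ℕ) - i) = j by omega)
  have hMmem : ∀ i j, M i j ∈ Algebra.adjoin k (Set.range ψ ∪ Set.range xs) := fun i j => by
    by_cases hij : i ≤ j
    · obtain ⟨e, -, he⟩ := hidx i j hij
      exact Algebra.subset_adjoin (Or.inr ⟨e, he⟩)
    · show coeffMatrix b i j ∈ _
      rw [htri i j (le_of_not_ge hij)]
      split
      · exact Algebra.subset_adjoin (Or.inl ⟨_, rfl⟩)
      · exact Subalgebra.zero_mem _
  refine ⟨n * n, xs, hψ, eq_top_iff.mpr (hs ▸ Algebra.adjoin_le fun a ha => ?_), fun e => ?_⟩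
  · have hcoef : ((⟨a, hsU ha⟩ : U) : A) = ∑ i, Coalgebra.counit (R := k) ((b i : U) : A) •
        TensorProduct.lid k A ((b.coord i).rTensor A (HopfRep.Comod.coact (k := k) (A := A) (⟨a, hsU ha⟩ : U))) := by
      generalize (⟨a, hsU ha⟩ : U) = u
      have h := congrArg (TensorProduct.lid k A) (Coalgebra.rTensor_counit_comul (R := k) (u : A))
      rw [TensorProduct.lid_tmul, one_smul,
        show Coalgebra.comul (R := k) (u : A) = U.subtype.rTensor A (HopfRep.Comod.coact (k := k) (A := A) u) from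
          (ComodSub.restr_coact_coe (HopfRep.Comod.regular k A) U hUsub u).symm] at h
      refine h.symm.trans ?_
      induction HopfRep.Comod.coact (k := k) (A := A) u using TensorProduct.induction_on with
      | zero => simp
      | add p q hp hq => simp only [map_add, smul_add, Finset.sum_add_distrib, hp, hq]
      | tmul x c =>
        simp only [LinearMap.rTensor_tmul, TensorProduct.lid_tmul, Module.Basis.coord_apply, smul_smul, ← Finset.sum_smul]
        congr 1
        conv_lhs => rw [← b.sum_repr x]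
        simp only [map_sum, map_smul, Submodule.coe_sum, Submodule.coe_smul, smul_eq_mul, mul_comm]
        simp [Submodule.subtype_apply, mul_comm]
    rw [SetLike.mem_coe, show a = ((⟨a, hsU ha⟩ : U) : A) from rfl, hcoef]
    refine Subalgebra.sum_mem _ fun i _ => Subalgebra.smul_mem _ ?_ _
    rw [counit_smul_coeffMatrix]
    exact Subalgebra.sum_mem _ fun j _ => Subalgebra.smul_mem _ (hMmem i j) _
  · have hmemψ : ∀ b, ψ b ∈ pre ψ xs e := fun b => Algebra.subset_adjoin (Or.inl ⟨b, rfl⟩)
    by_cases h : (e : ℕ) % n + (e : ℕ) / n < n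
    swap
    · exact ⟨1, 1, IsGroupLikeElem.one, IsGroupLikeElem.one, by simp [xs, dif_neg h]⟩
    set i : Fin n := ⟨(e : ℕ) % n, (Nat.le_add_right _ _).trans_lt h⟩ with hi
    set j : Fin n := ⟨(e : ℕ) % n + (e : ℕ) / n, h⟩ with hj
    refine ⟨dg i, dg j, hdg i, hdg j, ?_⟩
    have hxe : xs e = M i j := by simp only [xs, dif_pos h]; rfl
    rw [hxe, hcomul]
    by_cases hd0 : (e : ℕ) / n = 0
    · have hij : i = j := Fin.ext (show (e : ℕ) % n = (e : ℕ) % n + (e : ℕ) / n by omega)
      have hMij : ∀ l, M i l ⊗ₜ[k] M l j = if l = i then ψ (dg i) ⊗ₜ[k] ψ (dg j) else 0 := fun l => by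
        rcases lt_trichotomy l i with hl | hl | hl
        · rw [show M i l = 0 from (htri i l hl.le).trans (if_neg hl.ne'), zero_tmul, if_neg hl.ne]
        · subst hl
          rw [show M i i = ψ (dg i) from (htri i i le_rfl).trans (if_pos rfl), if_pos rfl, ← hij,
            show M i i = ψ (dg i) from (htri i i le_rfl).trans (if_pos rfl)]
        · rw [show M l j = 0 from (htri l j (hij ▸ hl.le)).trans (if_neg (hij ▸ hl.ne')), tmul_zero, if_neg hl.ne']
      rw [Finset.sum_congr rfl fun l _ => hMij l, Finset.sum_ite_eq', if_pos (Finset.mem_univ _), ← hij,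
        show M i i = ψ (dg i) from (htri i i le_rfl).trans (if_pos rfl), sub_self, zero_sub]
      exact Submodule.neg_mem _ ⟨⟨_, hmemψ (dg i)⟩ ⊗ₜ ⟨_, hmemψ (dg i)⟩, rfl⟩
    · have hlt : (i : ℕ) < j := Nat.lt_add_of_pos_right (Nat.pos_of_ne_zero hd0)
      have hne : i ≠ j := fun h' => by rw [h'] at hlt; exact lt_irrefl _ hlt
      rw [← Finset.add_sum_erase _ _ (Finset.mem_univ i),
        ← Finset.add_sum_erase _ _ (Finset.mem_erase.mpr ⟨hne.symm, Finset.mem_univ j⟩),
        show M i i = ψ (dg i) from (htri i i le_rfl).trans (if_pos rfl),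
        show M j j = ψ (dg j) from (htri j j le_rfl).trans (if_pos rfl)]
      rw [show ψ (dg i) ⊗ₜ[k] M i j + (M i j ⊗ₜ[k] ψ (dg j) +
          ∑ l ∈ (Finset.univ.erase i).erase j, M i l ⊗ₜ[k] M l j) - M i j ⊗ₜ[k] ψ (dg j) -
          ψ (dg i) ⊗ₜ[k] M i j = ∑ l ∈ (Finset.univ.erase i).erase j, M i l ⊗ₜ[k] M l j by abel]
      refine Submodule.sum_mem _ fun l hl => ?_
      obtain ⟨hlj, hli, -⟩ := Finset.mem_erase.mp hl |>.imp_right Finset.mem_erase.mp
      by_cases hil : i < l
      swap
      · rw [show M i l = 0 from (htri i l (le_of_not_gt hil)).trans (if_neg (Ne.symm hli)), zero_tmul]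
        exact Submodule.zero_mem _
      by_cases hlj' : l < j
      swap
      · rw [show M l j = 0 from (htri l j (le_of_not_gt hlj')).trans (if_neg hlj), tmul_zero]
        exact Submodule.zero_mem _
      have hmem : ∀ p q : Fin n, p ≤ q → (q : ℕ) - p < (e : ℕ) / n → M p q ∈ pre ψ xs e := fun p q hpq hd => by
        obtain ⟨e', he', hx⟩ := hidx p q hpq
        refine Algebra.subset_adjoin (Or.inr ⟨e', ?_, hx⟩)
        show (e' : ℕ) < (e : ℕ)
        rw [he']
        calc ((q : ℕ) - p) * n + p < ((q : ℕ) - p) * n + n := Nat.add_lt_add_left p.2 _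
          _ = (((q : ℕ) - p) + 1) * n := by ring
          _ ≤ ((e : ℕ) / n) * n := Nat.mul_le_mul_right _ hd
          _ ≤ e := Nat.div_mul_le_self _ _
      have h1 : (i : ℕ) < l := hil
      have h2 : (l : ℕ) < j := hlj'
      have h3 : (j : ℕ) = (i : ℕ) + (e : ℕ) / n := rfl
      exact ⟨⟨_, hmem i l hil.le (by omega)⟩ ⊗ₜ ⟨_, hmem l j hlj'.le (by omega)⟩, rfl⟩

end Groth.Agent.UnipExt
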