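import Groth.Agent.UnipExt.Weight
import Groth.Agent.UnipExt.Matrix
import Groth.Agent.UnipCrit.Crit
import Groth.Agent.HopfPtLib.Conv3
import Mathlib.RingTheory.Bialgebra.Quotient
import Mathlib.RingTheory.HopfAlgebra.Quotient
import Mathlib.RingTheory.Finiteness.Subalgebra

/-!
# Conjugacy of sections over diagonalisable quotients
-/

universe u

open TensorProduct WithConv

namespace Groth.Agent.UnipExt

variable {k : Type u} [Field k] {A B : Type u} [CommRing A] [HopfAlgebra k A] [CommRing B] [HopfAlgebra k B]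

theorem conj_mul {G : Type*} [Group G] (V X Y : G) : V * (X * Y) * V⁻¹ = V * X * V⁻¹ * (V * Y * V⁻¹) := by group

/-- The Hopf subalgebra generated by the base and a skew-primitive element. -/
theorem exists_step [Algebra.FiniteType k B] (hB : Submodule.span k {g : B | IsGroupLikeElem k g} = ⊤)
    (ψ : B →ₐc[k] A) (hψ : Function.Injective ψ) {x : A} {g : B} (hg : IsGroupLikeElem k g)
    (hΔx : CoalgebraStruct.comul (R := k) x = x ⊗ₜ[k] (1 : A) + ψ g ⊗ₜ[k] x) :
    ∃ (C : Type u) (_ : CommRing C) (_ : HopfAlgebra k C) (_ : Algebra.FiniteType k C)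
      (j : C →ₐc[k] A) (ψC : B →ₐc[k] C) (xC : C), Function.Injective j ∧ (∀ b, j (ψC b) = ψ b) ∧ j xC = x ∧
      Step ψC xC g (Ideal.map (ψC : B →+* C) (RingHom.ker (Bialgebra.counitAlgHom k B))) := by
  have hψgl : IsGroupLikeElem k (ψ g) := ⟨by rw [CoalgHomClass.counit_comp_apply, hg.counit_eq_one], by
    rw [← CoalgHomClass.map_comp_comul_apply ψ, hg.comul_eq_tmul_self, TensorProduct.map_tmul]; rfl⟩
  let C : Subalgebra k A := Algebra.adjoin k (Set.range ψ ∪ {x})
  have hBC : ∀ b, ψ b ∈ C := fun b => Algebra.subset_adjoin (Or.inl ⟨b, rfl⟩)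
  have hxC : x ∈ C := Algebra.subset_adjoin (Or.inr rfl)
  let ψ₀ : B →ₐ[k] C := (ψ : B →ₐ[k] A).codRestrict C hBC
  have hC : SGA3.IsHopfSubalgebra k A C := by
    constructor
    · intro y hy
      have : C ≤ ((Algebra.TensorProduct.map C.val C.val).range).comap (Bialgebra.comulAlgHom k A) := by
        refine Algebra.adjoin_le ?_
        rintro y (⟨b, rfl⟩ | (hyx : y = x))
        · refine ⟨Algebra.TensorProduct.map ψ₀ ψ₀ (CoalgebraStruct.comul (R := k) b), ?_⟩
          show Algebra.TensorProduct.map C.val C.val _ = CoalgebraStruct.comul (R := k) (ψ b)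
          rw [← CoalgHomClass.map_comp_comul_apply ψ b]
          induction CoalgebraStruct.comul (R := k) b using TensorProduct.induction_on with
          | zero => simp
          | add p q hp hq => simp only [map_add, hp, hq]
          | tmul p q => rfl
        · refine ⟨⟨x, hxC⟩ ⊗ₜ 1 + ψ₀ g ⊗ₜ ⟨x, hxC⟩, ?_⟩
          show Algebra.TensorProduct.map C.val C.val _ = CoalgebraStruct.comul (R := k) y
          rw [hyx, hΔx, map_add, Algebra.TensorProduct.map_tmul, Algebra.TensorProduct.map_tmul, map_one]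
          rfl
      obtain ⟨z, hz⟩ := this hy
      exact ⟨z, hz⟩
    · intro y hy
      refine (Algebra.adjoin_le (S := C.comap (HopfAlgebra.antipodeAlgHom k A)) ?_) hy
      rintro y (⟨b, rfl⟩ | (hyx : y = x))
      · show HopfAlgebraStruct.antipode (R := k) (ψ b) ∈ C
        rw [GrpSchLib.HopfGalois.antipode_bialgHom]
        exact hBC _
      · show HopfAlgebraStruct.antipode (R := k) y ∈ C
        rw [hyx, antipode_skew hψgl hΔx, GrpSchLib.HopfGalois.antipode_bialgHom]
        exact C.neg_mem (C.mul_mem (hBC _) hxC)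
  have hfg : C.FG := by
    obtain ⟨s, hs⟩ := Algebra.FiniteType.out (R := k) (A := B)
    refine Subalgebra.fg_def.mpr ⟨ψ '' s ∪ {x}, (s.finite_toSet.image _).union (Set.finite_singleton x), ?_⟩
    refine le_antisymm (Algebra.adjoin_le ?_) (Algebra.adjoin_le ?_)
    · rintro _ (⟨b, -, rfl⟩ | rfl)
      exacts [hBC b, hxC]
    · rintro _ (⟨b, rfl⟩ | rfl)
      · refine Algebra.adjoin_mono Set.subset_union_left ?_
        have : ψ b ∈ (Algebra.adjoin k (s : Set B)).map (ψ : B →ₐ[k] A) := ⟨b, hs ▸ Algebra.mem_top, rfl⟩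
        rwa [AlgHom.map_adjoin] at this
      · exact Algebra.subset_adjoin (Or.inr rfl)
  letI := GrpSchLib.SubHopf.hopf C hC
  haveI : Algebra.FiniteType k C := (Subalgebra.fg_iff_finiteType C).mp hfg
  let j : C →ₐc[k] A := BialgHom.ofAlgHom C.val rfl (AlgHom.ext fun c => GrpSchLib.SubHopf.map_comulRes C hC c)
  have hjinj : Function.Injective (Algebra.TensorProduct.map C.val C.val) :=
    GrpSchLib.SubHopf.map_val_injective _ _ Subtype.val_injective Subtype.val_injective
  let ψC : B →ₐc[k] C := BialgHom.ofAlgHom ψ₀ (AlgHom.ext fun b => CoalgHomClass.counit_comp_apply ψ b)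
    (AlgHom.ext fun b => hjinj (by
      refine Eq.trans ?_ (GrpSchLib.SubHopf.map_comulRes C hC (ψ₀ b)).symm
      show Algebra.TensorProduct.map C.val C.val
        (Algebra.TensorProduct.map ψ₀ ψ₀ (CoalgebraStruct.comul (R := k) b)) = CoalgebraStruct.comul (R := k) (ψ b)
      rw [← CoalgHomClass.map_comp_comul_apply ψ b]
      induction CoalgebraStruct.comul (R := k) b using TensorProduct.induction_on with
      | zero => simp
      | add p q hp hq => simp only [map_add, hp, hq]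
      | tmul p q => rfl))
  have hstep : Step ψC (⟨x, hxC⟩ : C) g (Ideal.map (ψC : B →+* C) (RingHom.ker (Bialgebra.counitAlgHom k B))) :=
    { inj := fun a b e => hψ (congrArg Subtype.val e)
      groupLike := hg
      comul_x := hjinj (by
        refine (GrpSchLib.SubHopf.map_comulRes C hC ⟨x, hxC⟩).trans ?_
        rw [map_add, Algebra.TensorProduct.map_tmul, Algebra.TensorProduct.map_tmul, map_one]
        exact hΔx)
      span := hB
      gen := by
        refine eq_top_iff.mpr fun c _ => ?_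
        have : (c : A) ∈ (Algebra.adjoin k (Set.range ψC ∪ {(⟨x, hxC⟩ : C)})).map C.val := by
          rw [AlgHom.map_adjoin, Set.image_union, Set.image_singleton, ← Set.range_comp]
          exact c.2
        obtain ⟨c', hc', e⟩ := this
        exact Subtype.val_injective e ▸ hc'
      ideal := rfl }
  exact ⟨C, inferInstance, inferInstance, inferInstance, j, ψC, ⟨x, hxC⟩, Subtype.val_injective, fun b => rfl, rfl, hstep⟩

/-- Descend a bialgebra map along a surjective one. -/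
theorem exists_factor {D E : Type u} [CommRing D] [Bialgebra k D] [CommRing E] [Bialgebra k E] (q : A →ₐc[k] D)
    (hq : Function.Surjective q) (f : A →ₐc[k] E) (h : ∀ a, q a = 0 → f a = 0) :
    ∃ f' : D →ₐc[k] E, ∀ a, f' (q a) = f a := by
  have hle : RingHom.ker (q : A →ₐ[k] D) ≤ RingHom.ker (f : A →ₐ[k] E) := fun a ha => h a ha
  let g : D →ₐ[k] E := AlgHom.liftOfSurjective (q : A →ₐ[k] D) hq (f : A →ₐ[k] E) hle
  have hg : ∀ a, g (q a) = f a := fun a => AlgHom.liftOfSurjective_apply (q : A →ₐ[k] D) hq _ hle a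
  refine ⟨BialgHom.ofAlgHom g (AlgHom.ext fun y => ?_) (AlgHom.ext fun y => ?_), hg⟩
  · obtain ⟨a, rfl⟩ := hq y
    show Coalgebra.counit (R := k) (g (q a)) = Coalgebra.counit (R := k) (q a)
    rw [hg, CoalgHomClass.counit_comp_apply, CoalgHomClass.counit_comp_apply]
  · obtain ⟨a, rfl⟩ := hq y
    show Algebra.TensorProduct.map g g (Coalgebra.comul (R := k) (q a)) = Coalgebra.comul (R := k) (g (q a))
    rw [hg, ← CoalgHomClass.map_comp_comul_apply q, ← CoalgHomClass.map_comp_comul_apply f]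
    induction Coalgebra.comul (R := k) a using TensorProduct.induction_on with
    | zero => simp
    | tmul c d =>
      simp only [TensorProduct.map_tmul, Algebra.TensorProduct.map_tmul]
      show g (q c) ⊗ₜ[k] g (q d) = _
      rw [hg, hg]; rfl
    | add c d hc hd => simp only [map_add, hc, hd]

theorem eq_zero_of_mk_eq_zero (ψ : B →ₐc[k] A) (r : A →ₐc[k] B) (hr : ∀ b, r (ψ b) = b) (J : Ideal A)
    (hJ : J = Ideal.map (ψ : B →+* A) (RingHom.ker (Bialgebra.counitAlgHom k B))) {g : B} {δ : A}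
    (hδ : Coalgebra.comul (R := k) δ = δ ⊗ₜ[k] (1 : A) + ψ g ⊗ₜ[k] δ) (hrδ : r δ = 0) (h0 : δ ∈ J) : δ = 0 := by
  let p : A →ₐ[k] A := ((ψ.comp r : A →ₐc[k] A) : A →ₐ[k] A)
  let phi : A →ₐ[k] A := (toConv (AlgHom.id k A) * (toConv p)⁻¹).ofConv
  have hpψ : p.comp (ψ : B →ₐ[k] A) = (ψ : B →ₐ[k] A) := AlgHom.ext fun b => congrArg ψ (hr b)
  have hphiψ : phi.comp (ψ : B →ₐ[k] A) = (1 : WithConv (B →ₐ[k] A)).ofConv := by
    show AlgHom.comp _ _ = _
    rw [AlgHom.convMul_comp_bialgHom_distrib]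
    simp only [ofConv_toConv, AlgHom.id_comp]
    rw [show ((toConv p)⁻¹).ofConv.comp (ψ : B →ₐ[k] A) = ((toConv (ψ : B →ₐ[k] A))⁻¹).ofConv from by
      show (p.comp (HopfAlgebra.antipodeAlgHom k A)).comp (ψ : B →ₐ[k] A) =
        (ψ : B →ₐ[k] A).comp (HopfAlgebra.antipodeAlgHom k B)
      rw [AlgHom.comp_assoc, show (HopfAlgebra.antipodeAlgHom k A).comp (ψ : B →ₐ[k] A) =
        (ψ : B →ₐ[k] A).comp (HopfAlgebra.antipodeAlgHom k B) from AlgHom.ext fun b =>
          GrpSchLib.HopfGalois.antipode_bialgHom ψ b, ← AlgHom.comp_assoc, hpψ]]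
    exact congrArg WithConv.ofConv (mul_inv_cancel (toConv (ψ : B →ₐ[k] A)))
  have h1 : phi δ = δ := by
    show (toConv (AlgHom.id k A) * toConv (p.comp (HopfAlgebra.antipodeAlgHom k A))).ofConv δ = δ
    rw [AlgHom.convMul_apply, hδ, map_add, Algebra.TensorProduct.lift_tmul, Algebra.TensorProduct.lift_tmul]
    simp only [ofConv_toConv, map_one, mul_one, AlgHom.id_apply]
    show δ + ψ g * ψ (r (HopfAlgebraStruct.antipode (R := k) δ)) = δ
    rw [← GrpSchLib.HopfGalois.antipode_bialgHom r, hrδ, map_zero, map_zero, mul_zero, add_zero]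
  rw [← h1]
  rw [hJ] at h0
  refine (Ideal.map_le_iff_le_comap.mpr fun b hb => ?_ : _ ≤ RingHom.ker phi) h0
  show phi (ψ b) = 0
  rw [show phi (ψ b) = algebraMap k A (Coalgebra.counit (R := k) b) from AlgHom.congr_fun hphiψ b,
    show Coalgebra.counit (R := k) b = (0 : k) from hb, map_zero]

theorem comul_retract (ψ : B →ₐc[k] A) (r : A →ₐc[k] B) (hr : ∀ b, r (ψ b) = b) {g : B} {x : A}
    (hx : Coalgebra.comul (R := k) x = x ⊗ₜ[k] (1 : A) + ψ g ⊗ₜ[k] x) :
    Coalgebra.comul (R := k) (x - ψ (r x)) = (x - ψ (r x)) ⊗ₜ[k] (1 : A) + ψ g ⊗ₜ[k] (x - ψ (r x)) := by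
  have hz : Coalgebra.comul (R := k) (r x) = r x ⊗ₜ[k] (1 : B) + g ⊗ₜ[k] r x := by
    rw [← CoalgHomClass.map_comp_comul_apply r, hx, map_add, TensorProduct.map_tmul, TensorProduct.map_tmul]
    show r _ ⊗ₜ[k] r 1 + r (ψ g) ⊗ₜ[k] r _ = _
    rw [map_one, hr]
  rw [map_sub, hx, ← CoalgHomClass.map_comp_comul_apply ψ, hz, map_add, TensorProduct.map_tmul,
    TensorProduct.map_tmul]
  show _ - (ψ (r x) ⊗ₜ[k] ψ 1 + ψ g ⊗ₜ[k] ψ (r x)) = _
  rw [map_one, TensorProduct.sub_tmul, TensorProduct.tmul_sub]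
  abel

/-- A skew-primitive element outside the base, good for descending smoothness when needed. -/
theorem exists_skew [IsAlgClosed k] [Algebra.FiniteType k A] [Algebra.FiniteType k B] (hB : Submodule.span k {g : B | IsGroupLikeElem k g} = ⊤)
    (ψ : B →ₐc[k] A) (hψ : Function.Injective ψ) (hsurj : ¬ Function.Surjective ψ) (J : Ideal A) [J.IsHopfIdeal k]
    (hJ : J = Ideal.map (ψ : B →+* A) (RingHom.ker (Bialgebra.counitAlgHom k B)))
    (hU : HopfRep.IsUnipotent k (A ⧸ J)) (hsm : _root_.IsReduced B ∨ _root_.IsReduced (A ⧸ J))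
    (r : A →ₐc[k] B) (hr : ∀ b, r (ψ b) = b) :
    ∃ (g : B) (δ : A), IsGroupLikeElem k g ∧
      Coalgebra.comul (R := k) δ = δ ⊗ₜ[k] (1 : A) + ψ g ⊗ₜ[k] δ ∧ r δ = 0 ∧ δ ≠ 0 ∧
      (_root_.IsReduced B ∨ (_root_.IsReduced (A ⧸ J) ∧
        (Ideal.Quotient.mkₐ k J δ ∉ RingHom.ker (Bialgebra.counitAlgHom k (A ⧸ J)) ^ 2 ∨
          ∀ n, Ideal.Quotient.mkₐ k J δ ∈ RingHom.ker (Bialgebra.counitAlgHom k (A ⧸ J)) ^ n))) := by
  classical
  obtain ⟨n, xs, ht⟩ := exists_isTower hB ψ hψ J hJ hU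
  let Rψ := (ψ : B →ₐ[k] A).range
  have hex : ∃ i : ℕ, ∃ h : i < n, xs ⟨i, h⟩ ∉ Rψ := by
    by_contra! hcon
    refine hsurj fun a => ?_
    have ha : a ∈ Algebra.adjoin k (Set.range ψ ∪ Set.range xs) := ht.gen ▸ Algebra.mem_top
    exact (Algebra.adjoin_le (S := Rψ) (by
      rintro _ (⟨b, rfl⟩ | ⟨i, rfl⟩)
      exacts [⟨b, rfl⟩, hcon i.1 i.2])) ha
  obtain ⟨hi, hxi⟩ := Nat.find_spec hex
  let i : Fin n := ⟨Nat.find hex, hi⟩
  have hpre : ∀ a ∈ pre ψ xs i, a ∈ Rψ := fun a ha => (Algebra.adjoin_le (S := Rψ) (by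
    rintro _ (⟨b, rfl⟩ | ⟨j, hj, rfl⟩)
    · exact ⟨b, rfl⟩
    · by_contra hcon
      exact Nat.find_min hex (m := j.1) hj ⟨j.2, hcon⟩)) ha
  obtain ⟨g, h, hg, hh, htri⟩ := ht.tri i
  obtain ⟨w, hw⟩ : ∃ w : B ⊗[k] B, TensorProduct.map (ψ : B →ₐ[k] A).toLinearMap (ψ : B →ₐ[k] A).toLinearMap w =
      CoalgebraStruct.comul (R := k) (xs i) - xs i ⊗ₜ[k] ψ h - ψ g ⊗ₜ[k] xs i := by
    obtain ⟨z, hz⟩ := htri
    rw [← hz]
    clear hz
    induction z using TensorProduct.induction_on with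
    | zero => exact ⟨0, by simp⟩
    | add p q hp hq =>
      obtain ⟨p', hp'⟩ := hp
      obtain ⟨q', hq'⟩ := hq
      exact ⟨p' + q', by rw [map_add, map_add, hp', hq']⟩
    | tmul p q =>
      obtain ⟨p', hp'⟩ := hpre _ p.2
      obtain ⟨q', hq'⟩ := hpre _ q.2
      exact ⟨p' ⊗ₜ q', congrArg₂ (fun a b : A => a ⊗ₜ[k] b) hp' hq'⟩
  obtain ⟨g', b, x, hg', hΔx, hxs⟩ := exists_normal hB ψ hψ (xs i) hg hh w hw.symm
  let δ₀ := x - ψ (r x)
  have hδ₀ := comul_retract ψ r hr hΔx
  have hrδ₀ : r δ₀ = 0 := by rw [map_sub, hr, sub_self]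
  have hne : δ₀ ≠ 0 := fun h0 => hxi ⟨(r x - b) * h, by
    show ψ ((r x - b) * h) = xs i
    rw [hxs, map_mul, map_sub, ← sub_eq_zero.mp h0]⟩
  rcases hsm with hB' | hU'
  · exact ⟨g', δ₀, hg', hδ₀, hrδ₀, hne, Or.inl hB'⟩
  by_cases hinf : ∀ n, Ideal.Quotient.mkₐ k J δ₀ ∈ RingHom.ker (Bialgebra.counitAlgHom k (A ⧸ J)) ^ n
  · exact ⟨g', δ₀, hg', hδ₀, hrδ₀, hne, Or.inr ⟨hU', Or.inr hinf⟩⟩
  push Not at hinf
  obtain ⟨N, hN⟩ := hinf
  obtain ⟨g'', y, hg'', hy, hy2⟩ := exists_good_skew hB ψ hψ r hr J hJ N g' δ₀ hg' hδ₀ hN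
  have hψgl : IsGroupLikeElem k (ψ g'') := ⟨by rw [CoalgHomClass.counit_comp_apply, hg''.counit_eq_one], by
    rw [← CoalgHomClass.map_comp_comul_apply ψ, hg''.comul_eq_tmul_self, TensorProduct.map_tmul]; rfl⟩
  have hπ : Ideal.Quotient.mkₐ k J (y - ψ (r y)) = Ideal.Quotient.mkₐ k J y := by
    rw [map_sub, show Ideal.Quotient.mkₐ k J (ψ (r y)) = algebraMap k (A ⧸ J) (Coalgebra.counit (R := k) (r y)) from
      AlgHom.congr_fun (mk_comp ψ J hJ) (r y), CoalgHomClass.counit_comp_apply, counit_skew hψgl hy, map_zero, sub_zero]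
  refine ⟨g'', y - ψ (r y), hg'', comul_retract ψ r hr hy, by rw [map_sub, hr, sub_self], fun h0 => hy2 ?_,
    Or.inr ⟨hU', Or.inl (hπ.symm ▸ hy2)⟩⟩
  rw [← hπ, h0, map_zero]
  exact zero_mem _

/-- Two retractions differ by conjugation by a point of the kernel. -/
theorem exists_conj_points [IsAlgClosed k] [Algebra.FiniteType k B]
    (hB : Submodule.span k {g : B | IsGroupLikeElem k g} = ⊤) (A₀ : Type u) [CommRing A₀] [IsNoetherianRing A₀]
    [Algebra k A₀] :
    ∀ (I : Ideal A₀) (A : Type u) [CommRing A] [HopfAlgebra k A] [Algebra.FiniteType k A] (f : A₀ →ₐ[k] A)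
      (_ : Function.Surjective f) (_ : RingHom.ker f = I) (ψ : B →ₐc[k] A) (_ : Function.Injective ψ)
      (J : Ideal A) [J.IsHopfIdeal k] (_ : J = Ideal.map (ψ : B →+* A) (RingHom.ker (Bialgebra.counitAlgHom k B)))
      (_ : HopfRep.IsUnipotent k (A ⧸ J)) (_ : _root_.IsReduced B ∨ _root_.IsReduced (A ⧸ J))
      (r' r'' : A →ₐc[k] B) (_ : ∀ b, r' (ψ b) = b) (_ : ∀ b, r'' (ψ b) = b),
      ∃ u : A →ₐ[k] k, (∀ b, u (ψ b) = Coalgebra.counit (R := k) b) ∧
        toConv (r'' : A →ₐ[k] B) = toConv ((Algebra.ofId k B).comp u) * toConv (r' : A →ₐ[k] B) *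
          (toConv ((Algebra.ofId k B).comp u))⁻¹ := by
  classical
  intro I
  induction I using WellFoundedGT.induction with
  | _ I ih =>
    intro A _ _ _ f hf hker ψ hψ J _ hJ hU hsm r' r'' hr' hr''
    by_cases hsurj : Function.Surjective ψ
    · refine ⟨Bialgebra.counitAlgHom k A, fun b => CoalgHomClass.counit_comp_apply ψ b, ?_⟩
      rw [show toConv ((Algebra.ofId k B).comp (Bialgebra.counitAlgHom k A)) = (1 : WithConv (A →ₐ[k] B)) from rfl,
        one_mul, inv_one, mul_one]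
      refine congrArg toConv (AlgHom.ext fun a => ?_)
      obtain ⟨b, rfl⟩ := hsurj a
      exact (hr'' b).trans (hr' b).symm
    obtain ⟨g, δ, hg, hδ, hrδ, hne, hgood⟩ := exists_skew hB ψ hψ hsurj J hJ hU hsm r' hr'
    obtain ⟨C, _, _, _, j, ψC, xC, hj, hjψ, hjx, hstep⟩ := exists_step hB ψ hψ hg hδ
    haveI := hstep.isHopf
    set JC : Ideal C := Ideal.map (ψC : B →+* C) (RingHom.ker (Bialgebra.counitAlgHom k B))
    letI : Algebra C A := (j : C →ₐ[k] A).toRingHom.toAlgebra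
    haveI : IsScalarTower k C A := IsScalarTower.of_algebraMap_eq fun c => ((j : C →ₐ[k] A).commutes c).symm
    haveI : Module.FaithfullyFlat C A :=
      RingHom.faithfullyFlat_algebraMap_iff.mp (GrpSchLib.HopfFlat.faithfullyFlat j hj)
    have hmapJ : JC.map (algebraMap C A) = J := by
      rw [hJ]
      refine (Ideal.map_map _ _).trans (congrArg (fun φ => Ideal.map φ _) (RingHom.ext fun b => hjψ b))
    have hsmC : _root_.IsReduced B ∨ _root_.IsReduced (C ⧸ JC) := by
      rcases hgood with h | ⟨h, -⟩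
      · exact Or.inl h
      haveI := h
      refine Or.inr (isReduced_of_injective (Ideal.quotientMap J (algebraMap C A)
        (Ideal.map_le_iff_le_comap.mp hmapJ.le)) (Ideal.quotientMap_injective' ?_))
      rw [← hmapJ, Ideal.comap_map_eq_self_of_faithfullyFlat]
    obtain ⟨c, hc, hroot⟩ := hstep.exists_coord_diff hsmC (r'.comp j) (r''.comp j)
      (fun b => (congrArg r' (hjψ b)).trans (hr' b)) (fun b => (congrArg r'' (hjψ b)).trans (hr'' b))
    have hc' : r'' δ = c • (1 - g) := by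
      have : r'' (j xC) = r' (j xC) + c • (1 - g) := hc
      rwa [hjx, hrδ, zero_add] at this
    obtain ⟨uC, huC, hux⟩ := hstep.exists_point_of_root c hroot
    obtain ⟨u, huj⟩ : ∃ u : A →ₐ[k] k, ∀ c, u (j c) = uC c := by
      have hne' : (RingHom.ker uC).map (algebraMap C A) ≠ ⊤ := fun h => by
        have h1 := Ideal.comap_map_eq_self_of_faithfullyFlat (B := A) (RingHom.ker uC)
        rw [h, Ideal.comap_top] at h1
        exact RingHom.ker_ne_top uC h1.symm
      obtain ⟨w, hw⟩ := ComodLib.exists_point (k := k) _ hne'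
      refine ⟨w, fun c => ?_⟩
      have := hw (Ideal.mem_map_of_mem (algebraMap C A) (x := c - algebraMap k C (uC c)) (by simp [RingHom.mem_ker]))
      rw [RingHom.mem_ker, map_sub, ← IsScalarTower.algebraMap_apply, map_sub, AlgHom.commutes, sub_eq_zero] at this
      exact this
    have huψ : ∀ b, u (ψ b) = Coalgebra.counit (R := k) b := fun b => by
      rw [← hjψ, huj, ← sub_eq_zero]
      have hmem : ψC b - algebraMap k C (Coalgebra.counit (R := k) b) ∈ JC := by
        rw [show algebraMap k C (Coalgebra.counit (R := k) b) =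
          (ψC : B →+* C) (algebraMap k B (Coalgebra.counit (R := k) b)) from ((ψC : B →ₐ[k] C).commutes _).symm]
        show (ψC : B →+* C) b - _ ∈ _
        rw [← map_sub]
        exact Ideal.mem_map_of_mem _ (by simp [RingHom.mem_ker])
      simpa using huC _ hmem
    have huδ : u δ = c := by rw [← hjx, huj, hux]
    set U : WithConv (A →ₐ[k] B) := toConv ((Algebra.ofId k B).comp u) with hUdef
    have happly : ∀ f₁ f₂ : WithConv (A →ₐ[k] B), (f₁ * f₂).ofConv δ = f₁.ofConv δ + f₁.ofConv (ψ g) * f₂.ofConv δ := by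
      intro f₁ f₂
      rw [AlgHom.convMul_apply, hδ, map_add, Algebra.TensorProduct.lift_tmul, Algebra.TensorProduct.lift_tmul,
        map_one, mul_one]
    have hUψ : U.ofConv.comp (ψ : B →ₐ[k] A) = (1 : WithConv (B →ₐ[k] B)).ofConv := AlgHom.ext fun b => by
      show algebraMap k B (u (ψ b)) = _
      rw [huψ]; rfl
    have hIψ : U⁻¹.ofConv.comp (ψ : B →ₐ[k] A) = (1 : WithConv (B →ₐ[k] B)).ofConv := AlgHom.ext fun b => by
      show algebraMap k B (u (HopfAlgebraStruct.antipode (R := k) (ψ b))) = _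
      rw [GrpSchLib.HopfGalois.antipode_bialgHom, huψ, HopfAlgebra.counit_antipode]; rfl
    have hψgl : IsGroupLikeElem k (ψ g) := ⟨by rw [CoalgHomClass.counit_comp_apply, hg.counit_eq_one], by
      rw [← CoalgHomClass.map_comp_comul_apply ψ, hg.comul_eq_tmul_self, TensorProduct.map_tmul]; rfl⟩
    have hIδ : U⁻¹.ofConv δ = -algebraMap k B c := by
      have h := happly U U⁻¹
      rw [mul_inv_cancel, show U.ofConv (ψ g) = 1 by
        show algebraMap k B (u (ψ g)) = 1
        rw [huψ, hg.counit_eq_one, map_one], one_mul,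
        show (1 : WithConv (A →ₐ[k] B)).ofConv δ = 0 by
          show algebraMap k B (Coalgebra.counit (R := k) δ) = 0
          rw [counit_skew hψgl hδ, map_zero], show U.ofConv δ = algebraMap k B c from congrArg _ huδ] at h
      exact eq_neg_of_add_eq_zero_right h.symm
    let R₁ : WithConv (A →ₐ[k] B) := U * toConv (r' : A →ₐ[k] B) * U⁻¹
    have hR₁ψ : ∀ b, R₁.ofConv (ψ b) = b := by
      intro b
      have h : R₁.ofConv.comp (ψ : B →ₐ[k] A) = AlgHom.id k B := by
        show AlgHom.comp _ _ = _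
        rw [AlgHom.convMul_comp_bialgHom_distrib, AlgHom.convMul_comp_bialgHom_distrib, hUψ, hIψ]
        simp only [ofConv_toConv, toConv_ofConv, one_mul, mul_one]
        exact AlgHom.ext hr'
      exact AlgHom.congr_fun h b
    have hUr : (U * toConv (r' : A →ₐ[k] B)).ofConv (ψ g) = g := by
      have h : (U * toConv (r' : A →ₐ[k] B)).ofConv.comp (ψ : B →ₐ[k] A) = AlgHom.id k B := by
        rw [AlgHom.convMul_comp_bialgHom_distrib, hUψ]
        simp only [ofConv_toConv, toConv_ofConv, one_mul]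
        exact AlgHom.ext hr'
      exact AlgHom.congr_fun h g
    have hR₁δ : R₁.ofConv δ = c • (1 - g) := by
      rw [happly, happly, hUr, hIδ, show U.ofConv δ = algebraMap k B c from congrArg _ huδ,
        show (toConv (r' : A →ₐ[k] B)).ofConv δ = 0 from hrδ, mul_zero, add_zero, Algebra.smul_def]
      ring
    let L' : B →ₐ[k] B ⊗[k] B := Algebra.TensorProduct.includeLeft
    let R' : B →ₐ[k] B ⊗[k] B := Algebra.TensorProduct.includeRight
    let r₁ : A →ₐc[k] B := BialgHom.ofAlgHom R₁.ofConv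
      (by
        show (Bialgebra.counitAlgHom k B).comp _ = _
        rw [AlgHom.comp_convMul_distrib, AlgHom.comp_convMul_distrib]
        simp only [ofConv_toConv, toConv_ofConv]
        have e1 : (Bialgebra.counitAlgHom k B).comp U.ofConv = u := AlgHom.ext fun a => by
          show Bialgebra.counitAlgHom k B (algebraMap k B (u a)) = u a
          rw [AlgHom.commutes]; rfl
        have e2 : (Bialgebra.counitAlgHom k B).comp U⁻¹.ofConv = ((toConv u)⁻¹).ofConv := AlgHom.ext fun a => by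
          show Bialgebra.counitAlgHom k B (algebraMap k B (u (HopfAlgebraStruct.antipode (R := k) a))) = _
          rw [AlgHom.commutes]; rfl
        rw [e1, e2, show (Bialgebra.counitAlgHom k B).comp (r' : A →ₐ[k] B) = (1 : WithConv (A →ₐ[k] k)).ofConv from
          AlgHom.ext fun a => CoalgHomClass.counit_comp_apply r' a, toConv_ofConv, toConv_ofConv, mul_one, mul_inv_cancel]
        rfl)
      (by
        have hLR : ∀ φ : A →ₐc[k] B, (Bialgebra.comulAlgHom k B).comp (φ : A →ₐ[k] B) =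
            (toConv (L'.comp (φ : A →ₐ[k] B)) * toConv (R'.comp (φ : A →ₐ[k] B))).ofConv := fun φ => by
          have h := AlgHom.convMul_comp_bialgHom_distrib (toConv L') (toConv R') φ
          rw [← comulAlgHom_eq] at h
          exact h
        have hmap : (Algebra.TensorProduct.map R₁.ofConv R₁.ofConv).comp (Bialgebra.comulAlgHom k A) =
            (toConv (L'.comp R₁.ofConv) * toConv (R'.comp R₁.ofConv)).ofConv := AlgHom.ext fun a => by
          show Algebra.TensorProduct.map _ _ (Coalgebra.comul (R := k) a) = _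
          rw [AlgHom.convMul_apply]
          induction Coalgebra.comul (R := k) a using TensorProduct.induction_on with
          | zero => simp
          | tmul p q => simp [L', R']
          | add p q hp hq => simp only [map_add, hp, hq]
        refine hmap.trans ?_
        symm
        show (Bialgebra.comulAlgHom k B).comp _ = _
        rw [AlgHom.comp_convMul_distrib, AlgHom.comp_convMul_distrib]
        simp only [toConv_ofConv, ofConv_toConv, hLR]
        rw [AlgHom.comp_convMul_distrib, AlgHom.comp_convMul_distrib, AlgHom.comp_convMul_distrib,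
          AlgHom.comp_convMul_distrib]
        simp only [toConv_ofConv, ofConv_toConv]
        have e1 : ∀ v : A →ₐ[k] k, (Bialgebra.comulAlgHom k B).comp ((Algebra.ofId k B).comp v) =
            (Algebra.ofId k (B ⊗[k] B)).comp v ∧ L'.comp ((Algebra.ofId k B).comp v) = (Algebra.ofId k (B ⊗[k] B)).comp v ∧
            R'.comp ((Algebra.ofId k B).comp v) = (Algebra.ofId k (B ⊗[k] B)).comp v := fun v =>
          ⟨AlgHom.ext fun a => (Bialgebra.comulAlgHom k B).commutes _, AlgHom.ext fun a => L'.commutes _,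
            AlgHom.ext fun a => R'.commutes _⟩
        have hI : U⁻¹.ofConv = (Algebra.ofId k B).comp ((toConv u)⁻¹).ofConv := rfl
        rw [hI, hUdef, ofConv_toConv, (e1 u).1, (e1 u).2.1, (e1 u).2.2, (e1 _).1, (e1 _).2.1, (e1 _).2.2]
        generalize hV : toConv ((Algebra.ofId k (B ⊗[k] B)).comp u) = V
        have hVi : toConv ((Algebra.ofId k (B ⊗[k] B)).comp ((toConv u)⁻¹).ofConv) = V⁻¹ := by subst hV; rfl
        rw [hVi]
        refine congrArg WithConv.ofConv ?_
        exact conj_mul V _ _)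
    let e : B := c • (1 - g)
    let δ₁ : A := δ - ψ e
    have hδ₁ : Coalgebra.comul (R := k) δ₁ = δ₁ ⊗ₜ[k] (1 : A) + ψ g ⊗ₜ[k] δ₁ := by
      have he : Coalgebra.comul (R := k) e = e ⊗ₜ[k] (1 : B) + g ⊗ₜ[k] e := by
        simp only [e, map_smul, map_sub, Bialgebra.comul_one, hg.comul_eq_tmul_self, Algebra.TensorProduct.one_def,
          TensorProduct.tmul_smul, TensorProduct.sub_tmul, TensorProduct.tmul_sub, smul_sub, TensorProduct.smul_tmul']
        abel
      rw [map_sub, hδ, ← CoalgHomClass.map_comp_comul_apply ψ, he, map_add, TensorProduct.map_tmul,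
        TensorProduct.map_tmul]
      show _ - (ψ e ⊗ₜ[k] ψ 1 + ψ g ⊗ₜ[k] ψ e) = _
      rw [map_one, TensorProduct.sub_tmul, TensorProduct.tmul_sub]
      abel
    have hr₁δ₁ : r₁ δ₁ = 0 := by
      show R₁.ofConv δ₁ = 0
      rw [map_sub, hR₁δ, hR₁ψ, sub_self]
    have hr''δ₁ : r'' δ₁ = 0 := by rw [map_sub, hc', hr'', sub_self]
    haveI := isHopfIdeal_span_skew hψgl hδ₁
    obtain ⟨π₂, hπ₂⟩ : ∃ π : A →ₐc[k] A ⧸ Ideal.span {δ₁}, ∀ a, π a = Ideal.Quotient.mk _ a :=
      ⟨Bialgebra.Quotient.mkBialgHom (R := k) (Ideal.span {δ₁}), fun _ => rfl⟩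
    have hπ₂s : Function.Surjective π₂ := fun y => by
      obtain ⟨a, rfl⟩ := Ideal.Quotient.mk_surjective y
      exact ⟨a, hπ₂ a⟩
    have hzero : ∀ φ : A →ₐc[k] B, φ δ₁ = 0 → ∀ a, π₂ a = 0 → φ a = 0 := fun φ hφ a ha => by
      rw [hπ₂, Ideal.Quotient.eq_zero_iff_mem] at ha
      obtain ⟨d, rfl⟩ := Ideal.mem_span_singleton'.mp ha
      rw [map_mul, hφ, mul_zero]
    obtain ⟨r₂', hr₂'⟩ := exists_factor π₂ hπ₂s r₁ (hzero _ hr₁δ₁)
    obtain ⟨r₂'', hr₂''⟩ := exists_factor π₂ hπ₂s r'' (hzero _ hr''δ₁)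
    let ψ₂ : B →ₐc[k] A ⧸ Ideal.span {δ₁} := π₂.comp ψ
    have hr₂'ψ : ∀ b, r₂' (ψ₂ b) = b := fun b => (hr₂' _).trans (hR₁ψ b)
    have hψ₂ : Function.Injective ψ₂ := fun x y h => by rw [← hr₂'ψ x, h, hr₂'ψ]
    let J₂ : Ideal (A ⧸ Ideal.span {δ₁}) := Ideal.map (ψ₂ : B →+* A ⧸ Ideal.span {δ₁})
      (RingHom.ker (Bialgebra.counitAlgHom k B))
    haveI : J₂.IsHopfIdeal k := MultTypeLib.isHopfIdeal_map_ker ψ₂
    have hJ₂ : ∀ a ∈ J, π₂ a ∈ J₂ := fun a ha => by
      rw [hJ] at ha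
      refine (Ideal.map_le_iff_le_comap.mpr fun b hb => ?_ : Ideal.map (ψ : B →+* A) _ ≤
        J₂.comap (π₂ : A →+* A ⧸ Ideal.span {δ₁})) ha
      exact Ideal.mem_map_of_mem (ψ₂ : B →+* A ⧸ Ideal.span {δ₁}) hb
    let q₂ : A →ₐc[k] (A ⧸ Ideal.span {δ₁}) ⧸ J₂ :=
      (Bialgebra.Quotient.mkBialgHom J₂ : (A ⧸ Ideal.span {δ₁}) →ₐc[k] _).comp π₂
    obtain ⟨F, hF⟩ := exists_factor (Bialgebra.Quotient.mkBialgHom J : A →ₐc[k] A ⧸ J) Ideal.Quotient.mk_surjective q₂
      (fun a ha => Ideal.Quotient.eq_zero_iff_mem.mpr (hJ₂ a (Ideal.Quotient.eq_zero_iff_mem.mp ha)))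
    have hFs : Function.Surjective F := fun y => by
      obtain ⟨y, rfl⟩ := Ideal.Quotient.mk_surjective y
      obtain ⟨a, rfl⟩ := hπ₂s y
      exact ⟨_, hF a⟩
    have hU₂ := UnipCrit.isUnipotent_of_surjective F hFs hU
    have hsm₂ : _root_.IsReduced B ∨ _root_.IsReduced ((A ⧸ Ideal.span {δ₁}) ⧸ J₂) := by
      rcases hgood with h | ⟨h, hgd⟩
      · exact Or.inl h
      haveI := h
      haveI : Algebra.FiniteType k (A ⧸ J) :=
        Algebra.FiniteType.of_surjective (Ideal.Quotient.mkₐ k J) Ideal.Quotient.mk_surjective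
      let t : A ⧸ J := Ideal.Quotient.mkₐ k J δ₁
      have ht : t = Ideal.Quotient.mkₐ k J δ := by
        show Ideal.Quotient.mkₐ k J (δ - ψ e) = _
        rw [map_sub, show Ideal.Quotient.mkₐ k J (ψ e) = algebraMap k (A ⧸ J) (Coalgebra.counit (R := k) e) from
          AlgHom.congr_fun (mk_comp ψ J hJ) e]
        simp [e, hg.counit_eq_one]
      have htΔ : Coalgebra.comul (R := k) t = t ⊗ₜ[k] (1 : A ⧸ J) + (1 : A ⧸ J) ⊗ₜ[k] t := by
        show Algebra.TensorProduct.map (Ideal.Quotient.mkₐ k J) (Ideal.Quotient.mkₐ k J) (Coalgebra.comul (R := k) δ₁) = _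
        rw [hδ₁, map_add, Algebra.TensorProduct.map_tmul, Algebra.TensorProduct.map_tmul, map_one,
          show Ideal.Quotient.mkₐ k J (ψ g) = algebraMap k (A ⧸ J) (Coalgebra.counit (R := k) g) from
            AlgHom.congr_fun (mk_comp ψ J hJ) g, hg.counit_eq_one, map_one]
      obtain ⟨ht0, -, hHopf⟩ := UnipCrit.isHopfIdeal_span_primitive htΔ
      haveI := hHopf
      haveI hred : _root_.IsReduced ((A ⧸ J) ⧸ Ideal.span {t}) := isReduced_quotient ht0 (ht.symm ▸ hgd)
      let G : (A ⧸ J) ⧸ Ideal.span {t} →+* (A ⧸ Ideal.span {δ₁}) ⧸ J₂ :=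
        Ideal.Quotient.lift _ (F : A ⧸ J →+* _) (fun z hz => by
          obtain ⟨d, rfl⟩ := Ideal.mem_span_singleton'.mp hz
          show F (d * t) = 0
          rw [map_mul, show F t = q₂ δ₁ from hF δ₁,
            show q₂ δ₁ = 0 from by
              show Ideal.Quotient.mk J₂ (π₂ δ₁) = 0
              rw [hπ₂, Ideal.Quotient.eq_zero_iff_mem.mpr (Ideal.mem_span_singleton_self δ₁), map_zero], mul_zero])
      let mkQ : A →+* (A ⧸ J) ⧸ Ideal.span {t} := (Ideal.Quotient.mk _).comp (Ideal.Quotient.mk J)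
      let H₁ : A ⧸ Ideal.span {δ₁} →+* (A ⧸ J) ⧸ Ideal.span {t} := Ideal.Quotient.lift _ mkQ (fun z hz => by
        obtain ⟨d, rfl⟩ := Ideal.mem_span_singleton'.mp hz
        rw [map_mul, show mkQ δ₁ = 0 from Ideal.Quotient.eq_zero_iff_mem.mpr (Ideal.mem_span_singleton_self t),
          mul_zero])
      let H : (A ⧸ Ideal.span {δ₁}) ⧸ J₂ →+* (A ⧸ J) ⧸ Ideal.span {t} := Ideal.Quotient.lift _ H₁ (fun z hz => by
        refine (Ideal.map_le_iff_le_comap.mpr fun b hb => ?_ : _ ≤ RingHom.ker H₁) hz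
        show H₁ (π₂ (ψ b)) = 0
        rw [hπ₂]
        show mkQ (ψ b) = 0
        show Ideal.Quotient.mk _ (Ideal.Quotient.mk J (ψ b)) = 0
        rw [Ideal.Quotient.eq_zero_iff_mem.mpr (hJ ▸ Ideal.mem_map_of_mem (ψ : B →+* A) hb : ψ b ∈ J), map_zero])
      refine Or.inr (isReduced_of_injective H (Function.LeftInverse.injective (g := G) fun z => ?_))
      obtain ⟨z, rfl⟩ := Ideal.Quotient.mk_surjective z
      obtain ⟨a, rfl⟩ := Ideal.Quotient.mk_surjective z
      show F (Ideal.Quotient.mk J a) = _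
      refine (hF a).trans ?_
      show Ideal.Quotient.mk J₂ (π₂ a) = _
      rw [hπ₂]
    have hlt : I < RingHom.ker ((π₂ : A →ₐ[k] A ⧸ Ideal.span {δ₁}).comp f) := by
      refine lt_of_le_of_ne (fun a ha => ?_) fun h => ?_
      · rw [← hker] at ha
        show π₂ (f a) = 0
        rw [show f a = 0 from ha, map_zero]
      · obtain ⟨a, ha⟩ := hf δ₁
        have h1 : a ∈ RingHom.ker ((π₂ : A →ₐ[k] A ⧸ Ideal.span {δ₁}).comp f) := by
          show π₂ (f a) = 0
          rw [ha, hπ₂]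
          exact Ideal.Quotient.eq_zero_iff_mem.mpr (Ideal.mem_span_singleton_self δ₁)
        rw [← h, ← hker] at h1
        have hδ0 : δ₁ = 0 := ha ▸ h1
        apply hne
        refine eq_zero_of_mk_eq_zero ψ r' hr' J hJ hδ hrδ ?_
        rw [← Ideal.Quotient.eq_zero_iff_mem]
        have hπe : Ideal.Quotient.mk J (ψ e) = 0 := by
          rw [show Ideal.Quotient.mk J (ψ e) = algebraMap k (A ⧸ J) (Coalgebra.counit (R := k) e) from
            AlgHom.congr_fun (mk_comp ψ J hJ) e]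
          simp [e, hg.counit_eq_one]
        rw [sub_eq_zero.mp hδ0, hπe]
    haveI : Algebra.FiniteType k (A ⧸ Ideal.span {δ₁}) :=
      Algebra.FiniteType.of_surjective (π₂ : A →ₐ[k] A ⧸ Ideal.span {δ₁}) hπ₂s
    obtain ⟨u₂, hu₂, h₂⟩ := ih _ hlt (A ⧸ Ideal.span {δ₁}) ((π₂ : A →ₐ[k] A ⧸ Ideal.span {δ₁}).comp f)
      (hπ₂s.comp hf) rfl ψ₂ hψ₂ J₂ rfl hU₂ hsm₂ r₂' r₂'' hr₂'ψ (fun b => (hr₂'' _).trans (hr'' b))
    let v : A →ₐ[k] k := u₂.comp (π₂ : A →ₐ[k] A ⧸ Ideal.span {δ₁})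
    refine ⟨(toConv v * toConv u).ofConv, fun b => ?_, ?_⟩
    · have h : (toConv v * toConv u).ofConv.comp (ψ : B →ₐ[k] A) = (1 : WithConv (B →ₐ[k] k)).ofConv := by
        rw [AlgHom.convMul_comp_bialgHom_distrib]
        simp only [ofConv_toConv]
        rw [show v.comp (ψ : B →ₐ[k] A) = (1 : WithConv (B →ₐ[k] k)).ofConv from AlgHom.ext fun b => hu₂ b,
          show u.comp (ψ : B →ₐ[k] A) = (1 : WithConv (B →ₐ[k] k)).ofConv from AlgHom.ext fun b => huψ b,
          toConv_ofConv, one_mul]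
      exact AlgHom.congr_fun h b
    · have hcomp : toConv (r'' : A →ₐ[k] B) = toConv ((Algebra.ofId k B).comp v) * R₁ *
          (toConv ((Algebra.ofId k B).comp v))⁻¹ := by
        have h := congrArg (fun φ : WithConv ((A ⧸ Ideal.span {δ₁}) →ₐ[k] B) =>
          φ.ofConv.comp (π₂ : A →ₐ[k] A ⧸ Ideal.span {δ₁})) h₂
        simp only [AlgHom.convMul_comp_bialgHom_distrib, ofConv_toConv, toConv_ofConv] at h
        rw [show (r₂'' : (A ⧸ Ideal.span {δ₁}) →ₐ[k] B).comp (π₂ : A →ₐ[k] A ⧸ Ideal.span {δ₁}) = (r'' : A →ₐ[k] B) from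
            AlgHom.ext hr₂'',
          show (r₂' : (A ⧸ Ideal.span {δ₁}) →ₐ[k] B).comp (π₂ : A →ₐ[k] A ⧸ Ideal.span {δ₁}) = R₁.ofConv from
            AlgHom.ext hr₂'] at h
        rw [h, toConv_ofConv]
        congr 1
        show toConv (((Algebra.ofId k B).comp (u₂.comp (HopfAlgebra.antipodeAlgHom k (A ⧸ Ideal.span {δ₁})))).comp
          (π₂ : A →ₐ[k] A ⧸ Ideal.span {δ₁})) = toConv (((Algebra.ofId k B).comp v).comp (HopfAlgebra.antipodeAlgHom k A))
        refine congrArg toConv (AlgHom.ext fun a => ?_)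
        show algebraMap k B (u₂ (HopfAlgebraStruct.antipode (R := k) (π₂ a))) =
          algebraMap k B (u₂ (π₂ (HopfAlgebraStruct.antipode (R := k) a)))
        rw [GrpSchLib.HopfGalois.antipode_bialgHom]
      rw [hcomp, show toConv ((Algebra.ofId k B).comp (toConv v * toConv u).ofConv) =
        toConv ((Algebra.ofId k B).comp v) * U from by rw [AlgHom.comp_convMul_distrib, toConv_ofConv]; all_goals rfl, mul_inv_rev]
      simp only [R₁, mul_assoc]

end Groth.Agent.UnipExt
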