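import Groth.Agent.UnipExt.Smooth
import Groth.Agent.UnipCrit.SubInv
import Groth.Agent.GrpSchLib.HopfTransfer
import Groth.Agent.GrpSchLib.FieldReduced
import Mathlib.RingTheory.Finiteness.Subalgebra
import Mathlib.Algebra.CharP.Reduced
import Mathlib.FieldTheory.IsAlgClosed.Basic

/-!
# Additive functions with vanishing differential are powers
-/

universe u

open TensorProduct MvPolynomial


namespace Groth.Agent.UnipExt

open ComodLib

variable {k : Type u} [Field k] [IsAlgClosed k] {A : Type u} [CommRing A] [HopfAlgebra k A] [Algebra.FiniteType k A]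

theorem exists_root [_root_.IsReduced A] {t : A}
    (ht : Coalgebra.comul (R := k) t = t ⊗ₜ[k] (1 : A) + (1 : A) ⊗ₜ[k] t)
    (h2 : t ∈ RingHom.ker (Bialgebra.counitAlgHom k A) ^ 2)
    {N : ℕ} (hN : t ∉ RingHom.ker (Bialgebra.counitAlgHom k A) ^ N) :
    ∃ (p : ℕ) (s : A), p.Prime ∧ CharP k p ∧
      Coalgebra.comul (R := k) s = s ⊗ₜ[k] (1 : A) + (1 : A) ⊗ₜ[k] s ∧ s ^ p = t := by
  classical
  haveI : IsNoetherianRing A := Algebra.FiniteType.isNoetherianRing k A
  let ε : A →ₐ[k] k := Bialgebra.counitAlgHom k A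
  let m := RingHom.ker ε
  have hεt : ε t = 0 := Ideal.pow_le_self two_ne_zero h2
  obtain ⟨d, x, hx, hspan, hli⟩ := RedSm.exists_coords ε
  have hexp : ∀ n, ∃ f : MvPolynomial (Fin d) k, t - aeval x f ∈ m ^ (n + 1) ∧
      ∀ α : Fin d →₀ ℕ, α.degree ≤ n → f.coeff α ≠ 0 → α ≠ 0 ∧ ∀ j, ((α j : ℕ) : k) = 0 := by
    intro n
    obtain ⟨f, hf, hα⟩ := exists_poly_of_primitive ht h2 x hx hspan hli n
    refine ⟨f, hf, fun α h1 h2' => ⟨fun h0 => h2' ?_, hα α h1 h2'⟩⟩
    subst h0
    have h3 : ε (aeval x f) = 0 := by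
      have h4 := sub_mem (show t ∈ m from hεt) (Ideal.pow_le_self (Nat.succ_ne_zero n) hf)
      rw [sub_sub_cancel] at h4
      exact h4
    have h5 := RedSm.aeval_mem_pow ε x hx 1 (f := f - C (constantCoeff f))
      (by rw [pow_one]; exact RedSm.sub_C_mem_irr f)
    rw [pow_one, RingHom.mem_ker, map_sub, map_sub, h3, aeval_C, AlgHom.commutes, zero_sub, neg_eq_zero] at h5
    exact h5
  obtain ⟨p, hp⟩ := CharP.exists k
  rcases CharP.char_is_prime_or_zero k p with hpp | hp0
  swap
  · subst hp0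
    haveI : CharZero k := CharP.charP_to_charZero k
    refine absurd ?_ hN
    rcases N with _ | N
    · simp
    obtain ⟨f, hf, hα⟩ := hexp N
    have hf' : f ∈ RedSm.irr k d ^ (N + 1) := by
      rw [mem_pow_idealOfVars_iff']
      intro α hα'
      by_contra hne
      obtain ⟨h0, hj⟩ := hα α (by omega) hne
      exact h0 (Finsupp.ext fun j => by exact_mod_cast hj j)
    simpa [m] using add_mem hf (RedSm.aeval_mem_pow ε x hx (N + 1) hf')
  haveI := Fact.mk hpp
  haveI : CharP k p := hp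
  haveI : Nontrivial A := ε.toRingHom.domain_nontrivial
  haveI : CharP A p := charP_of_injective_algebraMap (algebraMap k A).injective p
  haveI : ExpChar A p := .prime hpp
  haveI : _root_.IsReduced (A ⊗[k] A) := GrpSchLib.isReduced_tensor_of_perfectField
  haveI : CharP (A ⊗[k] A) p := by
    haveI : Nontrivial (A ⊗[k] A) := (Bialgebra.counitAlgHom k (A ⊗[k] A)).toRingHom.domain_nontrivial
    exact charP_of_injective_algebraMap (algebraMap k (A ⊗[k] A)).injective p
  haveI : ExpChar (A ⊗[k] A) p := .prime hpp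
  have hroot : ∀ c : k, ∃ c', c' ^ p = c := fun c => IsAlgClosed.exists_pow_nat_eq c hpp.pos
  let P : Subalgebra k A :=
    { carrier := {y | ∃ a : A, a ^ p = y}
      mul_mem' := fun ⟨a, ha⟩ ⟨b, hb⟩ => ⟨a * b, by rw [mul_pow, ha, hb]⟩
      one_mem' := ⟨1, one_pow p⟩
      add_mem' := fun ⟨a, ha⟩ ⟨b, hb⟩ => ⟨a + b, by rw [add_pow_char, ha, hb]⟩
      zero_mem' := ⟨0, zero_pow hpp.ne_zero⟩
      algebraMap_mem' := fun c => by
        obtain ⟨c', hc'⟩ := hroot c
        exact ⟨algebraMap k A c', by rw [← map_pow, hc']⟩ }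
  have hPmem : ∀ a : A, a ^ p ∈ P := fun a => ⟨a, rfl⟩
  have h1 : ∀ y : P, Coalgebra.comul (R := k) (P.val y) ∈ (Algebra.TensorProduct.map P.val P.val).range := by
    rintro ⟨_, a, rfl⟩
    show Coalgebra.comul (R := k) (a ^ p) ∈ _
    rw [show Coalgebra.comul (R := k) (a ^ p) = Coalgebra.comul (R := k) a ^ p from
      map_pow (Bialgebra.comulAlgHom k A) a p]
    induction Coalgebra.comul (R := k) a using TensorProduct.induction_on with
    | zero => rw [zero_pow hpp.ne_zero]; exact zero_mem _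
    | tmul b c => rw [Algebra.TensorProduct.tmul_pow]; exact ⟨⟨_, hPmem b⟩ ⊗ₜ[k] ⟨_, hPmem c⟩, rfl⟩
    | add b c hb hc => rw [add_pow_char]; exact add_mem hb hc
  have h2' : ∀ y : P, HopfAlgebraStruct.antipode (R := k) (P.val y) ∈ P.val.range := by
    rintro ⟨_, a, rfl⟩
    rw [Subalgebra.range_val]
    show HopfAlgebra.antipodeAlgHom k A (a ^ p) ∈ P
    rw [map_pow]
    exact hPmem _
  haveI : Algebra.FiniteType k P := by
    obtain ⟨s, hs⟩ := Algebra.FiniteType.out (R := k) (A := A)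
    refine (Subalgebra.fg_iff_finiteType P).mp ⟨s.image (· ^ p), le_antisymm (Algebra.adjoin_le ?_) ?_⟩
    · intro y hy
      obtain ⟨a, -, rfl⟩ := Finset.mem_image.mp (Finset.mem_coe.mp hy)
      exact hPmem a
    · rintro _ ⟨a, rfl⟩
      have ha : a ∈ Algebra.adjoin k (s : Set A) := hs ▸ Algebra.mem_top
      induction ha using Algebra.adjoin_induction with
      | mem a ha => exact Algebra.subset_adjoin (Finset.mem_coe.mpr (Finset.mem_image_of_mem _ ha))
      | algebraMap r => rw [← map_pow]; exact Subalgebra.algebraMap_mem _ _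
      | add a b _ _ ha hb => rw [add_pow_char]; exact add_mem ha hb
      | mul a b _ _ ha hb => rw [mul_pow]; exact mul_mem ha hb
  letI := GrpSchLib.HopfTransfer.hopf P.val Subtype.val_injective h1 h2'
  let ψ : P →ₐc[k] A := BialgHom.ofAlgHom P.val rfl
    (AlgHom.ext fun y => GrpSchLib.HopfTransfer.map_comulRes P.val Subtype.val_injective h1 y)
  let Q : Ideal A := Ideal.map (ψ : P →+* A) (RingHom.ker (Bialgebra.counitAlgHom k P))
  have hQ : ∀ a ∈ m, a ^ p ∈ Q := fun a ha => by
    refine Ideal.mem_map_of_mem (ψ : P →+* A) (x := ⟨a ^ p, hPmem a⟩) ?_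
    show ε (a ^ p) = 0
    rw [map_pow, show ε a = 0 from ha, zero_pow hpp.ne_zero]
  obtain ⟨M, hM⟩ := Ideal.exists_pow_le_of_le_radical_of_fg
    (I := m) (J := Q) (fun a ha => ⟨p, hQ a ha⟩) (IsNoetherian.noetherian m)
  have htQ : t ∈ Q := by
    obtain ⟨f, hf, hα⟩ := hexp M
    suffices h : aeval x f ∈ Q by
      have := add_mem (hM (Ideal.pow_le_pow_right (Nat.le_succ M) hf)) h
      rwa [sub_add_cancel] at this
    rw [f.as_sum, map_sum]
    refine Submodule.sum_mem _ fun α hαs => ?_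
    rcases le_or_gt α.degree M with hle | hlt
    · obtain ⟨h0, hj⟩ := hα α hle (mem_support_iff.mp hαs)
      have hdvd : ∀ j, p ∣ α j := fun j => (CharP.cast_eq_zero_iff k p _).mp (hj j)
      let β : Fin d →₀ ℕ := Finsupp.equivFunOnFinite.symm fun j => α j / p
      rw [aeval_monomial]
      refine Ideal.mul_mem_left _ _ ?_
      rw [Finsupp.prod_fintype _ _ (fun j => pow_zero _), Finset.prod_congr rfl fun j _ => show x j ^ α j = (x j ^ (α j / p)) ^ p by
        rw [← pow_mul, Nat.div_mul_cancel (hdvd j)], Finset.prod_pow]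
      refine hQ _ ?_
      obtain ⟨j, hj0⟩ : ∃ j, α j ≠ 0 := by
        by_contra! hcon
        exact h0 (Finsupp.ext hcon)
      show ε _ = 0
      rw [map_prod]
      refine Finset.prod_eq_zero (Finset.mem_univ j) ?_
      rw [map_pow, show ε (x j) = 0 from hx j, zero_pow]
      exact (Nat.div_pos (Nat.le_of_dvd (Nat.pos_of_ne_zero hj0) (hdvd j)) hpp.pos).ne'
    · refine hM (RedSm.aeval_mem_pow ε x hx M ?_)
      rw [mem_pow_idealOfVars_iff]
      intro γ hγ
      rw [Finset.mem_singleton.mp (support_monomial_subset hγ)]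
      exact hlt.le
  obtain ⟨⟨_, s, rfl⟩, hst⟩ := UnipCrit.mem_range_of_comul_sub_mem ψ Subtype.val_injective t (by
    rw [ht, add_sub_cancel_left]
    exact ⟨(1 : A) ⊗ₜ[k] (⟨t, htQ⟩ : Q.restrictScalars k), rfl⟩)
  have hst' : s ^ p = t := hst
  refine ⟨p, s, hpp, inferInstance, ?_, hst'⟩
  refine sub_eq_zero.mp (IsReduced.eq_zero _ ⟨p, ?_⟩)
  rw [sub_pow_char, add_pow_char, Algebra.TensorProduct.tmul_pow, Algebra.TensorProduct.tmul_pow, one_pow, hst',
    show Coalgebra.comul (R := k) s ^ p = Coalgebra.comul (R := k) t from by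
      rw [← hst']; exact (map_pow (Bialgebra.comulAlgHom k A) s p).symm, ht, sub_self]

end Groth.Agent.UnipExt
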