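import Groth.Agent.S7963
import Mathlib.RingTheory.MvPolynomial.Ideal
import Mathlib.RingTheory.MvPolynomial.Homogeneous
import Mathlib.Algebra.MvPolynomial.PDeriv
import Mathlib.RingTheory.Bialgebra.Quotient
import Mathlib.RingTheory.HopfAlgebra.Quotient

/-!
# Additive functions on a smooth group
-/

universe u

open TensorProduct MvPolynomial WithConv

namespace Groth.Agent.UnipExt

open ComodLib

variable {k : Type u} [Field k] [IsAlgClosed k] {A : Type u} [CommRing A] [HopfAlgebra k A] [Algebra.FiniteType k A]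

theorem formallySmooth_of_reduced [_root_.IsReduced A] : Algebra.FormallySmooth k A := by
  haveI : Algebra.FormallySmooth k (A ⧸ nilradical A) := Groth.Agent.S7963.formallySmooth_red
  exact Algebra.FormallySmooth.of_equiv
    ((Ideal.quotientEquivAlgOfEq k (nilradical_eq_zero A)).trans (AlgEquiv.quotientBot k A))

/-- Invariant derivations dual to coordinates at the unit. -/
theorem exists_derivations {d : ℕ} (x : Fin d → A) (hx : ∀ i, x i ∈ RingHom.ker (Bialgebra.counitAlgHom k A))
    (hli : ∀ c : Fin d → k, ∑ i, c i • x i ∈ RingHom.ker (Bialgebra.counitAlgHom k A) ^ 2 → c = 0) :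
    ∃ D : Fin d → Derivation k A A,
      (∀ i t, Coalgebra.comul (R := k) t = t ⊗ₜ[k] (1 : A) + (1 : A) ⊗ₜ[k] t →
        t ∈ RingHom.ker (Bialgebra.counitAlgHom k A) ^ 2 → D i t = 0) ∧
      ∀ i j, Bialgebra.counitAlgHom k A (D i (x j)) = if i = j then 1 else 0 := by
  classical
  let ε : A →ₐ[k] k := Bialgebra.counitAlgHom k A
  let m := RingHom.ker ε
  obtain ⟨q, hq⟩ : ∃ q : A →ₗ[k] A ⧸ (m ^ 2).restrictScalars k, q = ((m ^ 2).restrictScalars k).mkQ := ⟨_, rfl⟩
  have hliq : LinearIndependent k (fun i => q (x i)) := by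
    rw [Fintype.linearIndependent_iff]
    intro c hc i
    have : ∑ i, c i • x i ∈ m ^ 2 := by
      have h : q (∑ i, c i • x i) = 0 := by rw [map_sum]; simpa using hc
      rw [hq] at h
      exact (Submodule.Quotient.mk_eq_zero _).mp h
    exact congrFun (hli c this) i
  obtain ⟨G, hG⟩ := (Finsupp.linearCombination k (fun i => q (x i))).exists_leftInverse_of_injective
    (LinearMap.ker_eq_bot.mpr (linearIndependent_iff_injective_finsuppLinearCombination.mp hliq))
  let ext : A →ₗ[k] A := LinearMap.id - Algebra.linearMap k A ∘ₗ ε.toLinearMap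
  let v : Fin d → (A →ₗ[k] k) := fun i => (Finsupp.lapply i) ∘ₗ G ∘ₗ q ∘ₗ ext
  have hv1 : ∀ i, v i 1 = 0 := fun i => by simp [v, ext, ε]
  have hvx : ∀ i j, v i (x j) = if i = j then 1 else 0 := fun i j => by
    have h0 : ext (x j) = x j := by simp [ext, show ε (x j) = 0 from hx j]
    have h := LinearMap.congr_fun hG (Finsupp.single j 1)
    rw [LinearMap.comp_apply, Finsupp.linearCombination_single, one_smul, LinearMap.id_apply] at h
    simp only [v, LinearMap.comp_apply, h0, h, Finsupp.lapply_apply, Finsupp.single_apply, eq_comm]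
  have hv2 : ∀ i, ∀ a ∈ m ^ 2, v i a = 0 := fun i a ha => by
    have h0 : ext a = a := by simp [ext, show ε a = 0 from Ideal.pow_le_self two_ne_zero ha]
    have h : q a = 0 := by rw [hq]; exact (Submodule.Quotient.mk_eq_zero _).mpr ha
    simp [v, h0, h]
  have hvmul : ∀ i a b, v i (a * b) = ε a * v i b + v i a * ε b := by
    intro i a b
    have h : (a - algebraMap k A (ε a)) * (b - algebraMap k A (ε b)) ∈ m ^ 2 := by
      rw [pow_two]
      exact Ideal.mul_mem_mul (by simp [m, RingHom.mem_ker]) (by simp [m, RingHom.mem_ker])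
    have := hv2 i _ h
    rw [show (a - algebraMap k A (ε a)) * (b - algebraMap k A (ε b)) =
        a * b - ε b • a - ε a • b + (ε a * ε b) • (1 : A) by
      simp only [Algebra.smul_def, map_mul]; ring] at this
    simp only [map_add, map_sub, map_smul, hv1, smul_eq_mul, mul_zero, add_zero] at this
    linear_combination this
  have hsl : ∀ i (z w : A ⊗[k] A), slice (v i) (z * w) =
      slice (v i) z * slice ε.toLinearMap w + slice ε.toLinearMap z * slice (v i) w := by
    intro i z w
    induction z using TensorProduct.induction_on with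
    | zero => simp
    | add p q hp hq => simp only [add_mul, map_add, hp, hq]; ring
    | tmul a b =>
      induction w using TensorProduct.induction_on with
      | zero => simp
      | add p q hp hq => simp only [mul_add, map_add, hp, hq]; ring
      | tmul a' b' =>
        simp only [Algebra.TensorProduct.tmul_mul_tmul, slice_tmul, hvmul, AlgHom.toLinearMap_apply, Algebra.smul_def,
          map_add, map_mul]
        ring
  have hcounit : ∀ a : A, slice ε.toLinearMap (Coalgebra.comul (R := k) a) = a := fun a => by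
    show TensorProduct.rid k A (LinearMap.lTensor A (Coalgebra.counit (R := k) (A := A)) (Coalgebra.comul (R := k) a)) = a
    rw [Coalgebra.lTensor_counit_comul, TensorProduct.rid_tmul, one_smul]
  let D : Fin d → Derivation k A A := fun i => Derivation.mk' (slice (v i) ∘ₗ Coalgebra.comul) fun a b => by
    simp only [LinearMap.comp_apply, Bialgebra.comul_mul, hsl, hcounit, smul_eq_mul]
    ring
  have hεD : ∀ i a, ε (D i a) = v i a := by
    intro i a
    show ε (slice (v i) (Coalgebra.comul (R := k) a)) = _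
    conv_rhs => rw [← one_smul k a, ← TensorProduct.lid_tmul, ← Coalgebra.rTensor_counit_comul (R := k) a]
    induction Coalgebra.comul (R := k) a using TensorProduct.induction_on with
    | zero => simp
    | add p q hp hq => simp only [map_add, hp, hq]
    | tmul p q => simp [ε, mul_comm]
  refine ⟨D, fun i t ht h2 => ?_, fun i j => (hεD i (x j)).trans (hvx i j)⟩
  show slice (v i) (Coalgebra.comul (R := k) t) = 0
  rw [ht, map_add, slice_tmul, slice_tmul, hv1, hv2 i t h2, zero_smul, zero_smul, add_zero]

/-- In characteristic exponent `p`, an additive function has, up to high order, exponents divisible by `p`. -/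
theorem exists_poly_of_primitive [_root_.IsReduced A] {t : A}
    (ht : Coalgebra.comul (R := k) t = t ⊗ₜ[k] (1 : A) + (1 : A) ⊗ₜ[k] t)
    (h2 : t ∈ RingHom.ker (Bialgebra.counitAlgHom k A) ^ 2)
    {d : ℕ} (x : Fin d → A) (hx : ∀ i, x i ∈ RingHom.ker (Bialgebra.counitAlgHom k A))
    (hspan : ∀ y ∈ RingHom.ker (Bialgebra.counitAlgHom k A),
      ∃ c : Fin d → k, y - ∑ i, c i • x i ∈ RingHom.ker (Bialgebra.counitAlgHom k A) ^ 2)
    (hli : ∀ c : Fin d → k, ∑ i, c i • x i ∈ RingHom.ker (Bialgebra.counitAlgHom k A) ^ 2 → c = 0) (n : ℕ) :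
    ∃ f : MvPolynomial (Fin d) k, t - aeval x f ∈ RingHom.ker (Bialgebra.counitAlgHom k A) ^ (n + 1) ∧
      ∀ α : Fin d →₀ ℕ, α.degree ≤ n → f.coeff α ≠ 0 → ∀ j, ((α j : ℕ) : k) = 0 := by
  classical
  haveI := formallySmooth_of_reduced (k := k) (A := A)
  haveI : IsNoetherianRing A := Algebra.FiniteType.isNoetherianRing k A
  let ε : A →ₐ[k] k := Bialgebra.counitAlgHom k A
  let m := RingHom.ker ε
  obtain ⟨f, hf⟩ := RedSm.exists_poly ε x hx hspan (n + 1) t
  refine ⟨f, hf, fun α hα hα0 j => ?_⟩
  obtain ⟨D, hDt0, hDx⟩ := exists_derivations x hx hli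
  have hDt : ∀ i, D i t = 0 := fun i => hDt0 i t ht h2
  have hDpow : ∀ i l, ∀ a ∈ m ^ l, D i a ∈ m ^ (l - 1) := by
    intro i l a ha
    induction l generalizing a with
    | zero => simp
    | succ l ih =>
      rw [pow_succ'] at ha
      refine Submodule.mul_induction_on ha (fun p hp q hq => ?_) fun p q hp hq => by
        rw [map_add]; exact add_mem hp hq
      rw [Derivation.leibniz, smul_eq_mul, smul_eq_mul, Nat.succ_sub_one]
      refine add_mem ?_ (Ideal.mul_mem_right _ _ hq)
      rcases l with _ | l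
      · simp
      · have h : p * D i q ∈ m * m ^ l := Ideal.mul_mem_mul hp (ih q hq)
        rwa [← pow_succ'] at h
  have hchain : ∀ i (F : MvPolynomial (Fin d) k), D i (aeval x F) = ∑ j, aeval x (pderiv j F) * D i (x j) := by
    intro i F
    induction F using MvPolynomial.induction_on with
    | C a => simp
    | add p q hp hq => simp only [map_add, hp, hq, add_mul, Finset.sum_add_distrib]
    | mul_X p l hp =>
      rw [map_mul, aeval_X, Derivation.leibniz, hp, smul_eq_mul, smul_eq_mul, Finset.mul_sum]
      simp only [pderiv_mul, pderiv_X, map_add, map_mul, aeval_X, add_mul, Finset.sum_add_distrib]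
      rw [add_comm]
      congr 1
      · exact Finset.sum_congr rfl fun j _ => by ring
      · rw [Finset.sum_eq_single l (fun j _ hj => by simp [Pi.single_apply, Ne.symm hj]) (fun h => absurd (Finset.mem_univ l) h)]
        simp
  let qn := Ideal.Quotient.mk (m ^ n)
  let M : Matrix (Fin d) (Fin d) (A ⧸ m ^ n) := fun i j => qn (D i (x j))
  let w : Fin d → A ⧸ m ^ n := fun j => qn (aeval x (pderiv j f))
  have hMw : M.mulVec w = 0 := by
    funext i
    show ∑ j, qn (D i (x j)) * qn (aeval x (pderiv j f)) = 0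
    rw [← Finset.sum_congr rfl (fun j _ => (map_mul qn _ _).trans (mul_comm _ _) |>.trans (mul_comm _ _)), ← map_sum]
    refine Ideal.Quotient.eq_zero_iff_mem.mpr ?_
    rw [show ∑ j, D i (x j) * aeval x (pderiv j f) = D i (aeval x f) by
      rw [hchain]; exact Finset.sum_congr rfl fun j _ => mul_comm _ _]
    have h := hDpow i (n + 1) _ hf
    rw [map_sub, hDt, zero_sub, neg_mem_iff, Nat.add_sub_cancel] at h
    exact h
  have hMu : IsUnit M.det := by
    rcases n.eq_zero_or_pos with hn | hn
    · haveI : Subsingleton (A ⧸ m ^ n) := Ideal.Quotient.subsingleton_iff.mpr (by rw [hn, pow_zero, Ideal.one_eq_top])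
      exact isUnit_of_subsingleton _
    let d0 : A := Matrix.det (Matrix.of fun i j => D i (x j))
    have hd0 : M.det = qn d0 := (qn.map_det _).symm
    have hε : ε d0 = 1 := by
      rw [show ε d0 = (ε : A →+* k) d0 from rfl, RingHom.map_det]
      convert Matrix.det_one (n := Fin d) (R := k)
      ext i j
      show ε (D i (x j)) = _
      rw [show ε (D i (x j)) = _ from hDx i j, Matrix.one_apply]
    have hnil : IsNilpotent (qn (d0 - 1)) := by
      refine ⟨n, ?_⟩
      rw [← map_pow]
      exact Ideal.Quotient.eq_zero_iff_mem.mpr (Ideal.pow_mem_pow (by simp [m, RingHom.mem_ker, hε]) n)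
    rw [hd0, show d0 = (d0 - 1) + 1 by ring, map_add, map_one]
    exact hnil.isUnit_add_one
  have hw : w = 0 := Matrix.mulVec_injective_of_isUnit ((Matrix.isUnit_iff_isUnit_det M).mpr hMu)
    (hMw.trans (Matrix.mulVec_zero M).symm)
  by_contra hαj
  have hj1 : 1 ≤ α j := Nat.one_le_iff_ne_zero.mpr fun h => hαj (by simp [h])
  have hmem : pderiv j f ∈ RedSm.irr k d ^ n :=
    RedSm.mem_irr_pow ε x hx hspan hli n (Ideal.Quotient.eq_zero_iff_mem.mp (congrFun hw j))
  obtain ⟨β, rfl⟩ : ∃ β, α = β + Finsupp.single j 1 :=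
    ⟨α - Finsupp.single j 1, (tsub_add_cancel_of_le (Finsupp.single_le_iff.mpr hj1)).symm⟩
  have hdeg : β.degree < n := by
    simp [Finsupp.degree_single] at hα
    omega
  have h := (mem_pow_idealOfVars_iff' n (pderiv j f)).mp hmem β hdeg
  rw [coeff_pderiv] at h
  rcases mul_eq_zero.mp h with h | h
  · exact hα0 h
  · exact hαj (by simpa using h)

/-- The kernel of an additive function with nonzero differential, or vanishing near the unit, is smooth. -/
theorem isReduced_quotient [_root_.IsReduced A] {t : A} [(Ideal.span {t}).IsHopfIdeal k]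
    (h0 : Coalgebra.counit (R := k) t = (0 : k))
    (h : t ∉ RingHom.ker (Bialgebra.counitAlgHom k A) ^ 2 ∨
      ∀ n, t ∈ RingHom.ker (Bialgebra.counitAlgHom k A) ^ n) :
    _root_.IsReduced (A ⧸ Ideal.span {t}) := by
  classical
  haveI := formallySmooth_of_reduced (k := k) (A := A)
  haveI : IsNoetherianRing A := Algebra.FiniteType.isNoetherianRing k A
  haveI : Algebra.FiniteType k (A ⧸ Ideal.span {t}) :=
    Algebra.FiniteType.of_surjective (Ideal.Quotient.mkₐ k _) Ideal.Quotient.mk_surjective
  let ε : A →ₐ[k] k := Bialgebra.counitAlgHom k A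
  let m := RingHom.ker ε
  refine Groth.Agent.S7963.result k (A ⧸ Ideal.span {t}) fun y hy => ?_
  obtain ⟨a, rfl⟩ := Ideal.Quotient.mk_surjective y
  obtain ⟨K, hK⟩ := mem_nilradical.mp hy
  rw [← map_pow, Ideal.Quotient.eq_zero_iff_mem] at hK
  obtain ⟨b, hb⟩ := Ideal.mem_span_singleton'.mp hK
  have hεa : ε a = 0 := by
    have h1 : ε a ^ K = 0 := by
      rw [← map_pow, ← hb, map_mul, show ε t = 0 from h0, mul_zero]
    exact eq_zero_of_pow_eq_zero h1
  suffices key : a ∈ m ^ 2 ⊔ Ideal.span {t} by
    let mk := Ideal.Quotient.mk (Ideal.span ({t} : Set A))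
    have hmap : m.map mk ≤ RingHom.ker (Bialgebra.counitAlgHom k (A ⧸ Ideal.span {t})) :=
      Ideal.map_le_iff_le_comap.mpr fun z hz => (CoalgHomClass.counit_comp_apply
        (Bialgebra.Quotient.mkBialgHom (Ideal.span {t}) : A →ₐc[k] A ⧸ Ideal.span {t}) z).trans hz
    have h2 := Ideal.mem_map_of_mem mk key
    rw [Ideal.map_sup, Ideal.map_quotient_self, sup_bot_eq, Ideal.map_pow] at h2
    exact Ideal.pow_right_mono hmap 2 h2
  obtain ⟨d, x₀, hx₀, hspan₀, hli₀⟩ := RedSm.exists_coords ε
  -- coordinates in which `t` is killed by a substitution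
  obtain ⟨x, S, hx, hspan, hli, hS, hSt⟩ : ∃ (x : Fin d → A) (S : Finset (Fin d)),
      (∀ i, x i ∈ m) ∧ (∀ y ∈ m, ∃ c : Fin d → k, y - ∑ i, c i • x i ∈ m ^ 2) ∧
      (∀ c : Fin d → k, ∑ i, c i • x i ∈ m ^ 2 → c = 0) ∧ (∀ j ∈ S, x j ∈ Ideal.span {t}) ∧
      ∀ n, ∃ ft : MvPolynomial (Fin d) k, t - aeval x ft ∈ m ^ n ∧
        aeval (fun i => if i ∈ S then (0 : MvPolynomial (Fin d) k) else X i) ft = 0 := by
    rcases h with h | h
    · have htm : t ∈ m := h0
      obtain ⟨c, hc⟩ := hspan₀ t htm
      obtain ⟨j, hj⟩ : ∃ j, c j ≠ 0 := by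
        by_contra! hcon
        exact h (by simpa [hcon] using hc)
      let x := Function.update x₀ j t
      have hsum : ∀ e : Fin d → k, ∑ i, e i • x i = ∑ i, e i • x₀ i + e j • (t - x₀ j) := by
        intro e
        rw [← sub_eq_iff_eq_add', ← Finset.sum_sub_distrib, Finset.sum_eq_single j (fun i _ hi => by
          simp [x, Function.update_of_ne hi]) (fun h => absurd (Finset.mem_univ j) h)]
        simp [x, smul_sub]
      refine ⟨x, {j}, fun i => ?_, fun y hy => ?_, fun e he => ?_, ?_, fun n => ⟨X j, ?_, ?_⟩⟩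
      · by_cases hi : i = j
        · subst hi; simpa [x] using htm
        · rw [show x i = x₀ i from Function.update_of_ne hi _ _]; exact hx₀ i
      · obtain ⟨e, he⟩ := hspan₀ y hy
        let r : k := e j / c j
        refine ⟨fun i => if i = j then r else e i - r * c i, ?_⟩
        have hval : ∑ i, (if i = j then r else e i - r * c i) • x i =
            ∑ i, e i • x₀ i + r • (t - ∑ i, c i • x₀ i) := by
          rw [smul_sub, Finset.smul_sum, ← add_sub_assoc, eq_sub_iff_add_eq, ← Finset.sum_add_distrib]
          rw [← sub_eq_iff_eq_add', ← Finset.sum_sub_distrib, Finset.sum_eq_single j (fun i _ hi => by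
            simp [x, Function.update_of_ne hi, hi, smul_smul, sub_smul]) (fun h => absurd (Finset.mem_univ j) h)]
          simp only [x, Function.update_self, if_pos rfl, smul_smul, r, div_mul_cancel₀ _ hj]
          abel
        rw [hval, ← sub_sub]
        exact sub_mem he (Submodule.smul_of_tower_mem _ r hc)
      · have h1 := hsum e
        let e' : Fin d → k := fun i => if i = j then e j * c j else e i + e j * c i
        have h2 : ∑ i, e' i • x₀ i ∈ m ^ 2 := by
          have h3 : ∑ i, e' i • x₀ i = ∑ i, e i • x i - e j • (t - ∑ i, c i • x₀ i) := by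
            rw [h1, smul_sub, smul_sub, Finset.smul_sum]
            have : ∀ i, e' i • x₀ i = e i • x₀ i + (e j • c i • x₀ i - if i = j then e j • x₀ i else 0) := by
              intro i
              by_cases hi : i = j
              · subst hi; simp [e', smul_smul]
              · simp [e', hi, add_smul, smul_smul]
            rw [Finset.sum_congr rfl (fun i _ => this i), Finset.sum_add_distrib, Finset.sum_sub_distrib,
              Finset.sum_ite_eq', if_pos (Finset.mem_univ j)]
            abel
          rw [h3]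
          exact sub_mem he (Submodule.smul_of_tower_mem _ (e j) hc)
        have h4 := hli₀ e' h2
        have hej : e j = 0 := by
          have := congrFun h4 j
          simpa [e', hj] using this
        funext i
        by_cases hi : i = j
        · subst hi; exact hej
        · simpa [e', hi, hej] using congrFun h4 i
      · intro i hi
        rw [Finset.mem_singleton] at hi
        subst hi
        simpa [x] using Ideal.mem_span_singleton_self t
      · simp [x]
      · simp
    · exact ⟨x₀, ∅, hx₀, hspan₀, hli₀, fun j hj => absurd hj (Finset.notMem_empty j),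
        fun n => ⟨0, by simpa using h n, by simp⟩⟩
  let σ : MvPolynomial (Fin d) k →ₐ[k] MvPolynomial (Fin d) k := aeval fun i => if i ∈ S then 0 else X i
  obtain ⟨f, hf⟩ := RedSm.exists_poly ε x hx hspan (K + 1) a
  obtain ⟨g, hg⟩ := RedSm.exists_poly ε x hx hspan (K + 1) b
  obtain ⟨ft, hft, hftσ⟩ := hSt (K + 1)
  have hrel : f ^ K - g * ft ∈ RedSm.irr k d ^ (K + 1) := by
    refine RedSm.mem_irr_pow ε x hx hspan hli _ ?_
    rw [← Ideal.Quotient.eq_zero_iff_mem, map_sub, map_sub, map_pow, map_pow, map_mul, map_mul,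
      ← Ideal.Quotient.eq.mpr hf, ← Ideal.Quotient.eq.mpr hg, ← Ideal.Quotient.eq.mpr hft, ← map_pow, ← map_mul,
      ← map_sub, Ideal.Quotient.eq_zero_iff_mem, ← hb, sub_self]
    exact zero_mem _
  have hσirr : ∀ n, ∀ F ∈ RedSm.irr k d ^ n, σ F ∈ RedSm.irr k d ^ n := by
    intro n F hF
    have hle : (RedSm.irr k d).map σ ≤ RedSm.irr k d := by
      rw [Ideal.map_le_iff_le_comap, Ideal.span_le]
      rintro _ ⟨i, rfl⟩
      show σ (X i) ∈ RedSm.irr k d
      simp only [σ, aeval_X]
      split
      · exact zero_mem _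
      · exact Ideal.subset_span ⟨i, rfl⟩
    have := Ideal.mem_map_of_mem σ hF
    rw [Ideal.map_pow] at this
    exact Ideal.pow_right_mono hle n this
  have hsf : σ f ^ K ∈ RedSm.irr k d ^ (K + 1) := by
    have := hσirr _ _ hrel
    rwa [map_sub, map_pow, map_mul, show σ ft = 0 from hftσ, mul_zero, sub_zero] at this
  have hf1 : f ∈ RedSm.irr k d := by
    have h1 : aeval x f ∈ m := by
      have h2 := Ideal.pow_le_self (Nat.succ_ne_zero K) hf
      have h3 := sub_mem (show a ∈ m from hεa) h2
      rwa [sub_sub_cancel] at h3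
    have h4 := RedSm.mem_irr_pow ε x hx hspan hli 1 (f := f) (by rw [pow_one]; exact h1)
    rwa [pow_one] at h4
  obtain ⟨c, hc⟩ := RedSm.exists_linear_of_mem_irr hf1
  let L : MvPolynomial (Fin d) k := ∑ i, (if i ∈ S then 0 else c i) • X i
  have hσL : σ f - L ∈ RedSm.irr k d ^ 2 := by
    have h1 := hσirr 2 _ hc
    rw [map_sub, map_sum] at h1
    convert h1 using 2
    refine Finset.sum_congr rfl fun i _ => ?_
    rw [map_smul]
    simp only [σ, aeval_X]
    split <;> simp
  have hL : L ∈ RedSm.irr k d := by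
    refine Submodule.sum_mem _ fun i _ => ?_
    rw [smul_eq_C_mul]
    exact Ideal.mul_mem_left _ _ (Ideal.subset_span ⟨i, rfl⟩)
  have hLK : L ^ K ∈ RedSm.irr k d ^ (K + 1) := by
    rcases K with _ | K
    · simpa using hsf
    have hsf1 : σ f ∈ RedSm.irr k d := by simpa using hσirr 1 f (by simpa using hf1)
    have h1 : σ f ^ (K + 1) - L ^ (K + 1) ∈ RedSm.irr k d ^ (K + 1 + 1) := by
      rw [← geom_sum₂_mul, show K + 1 + 1 = K + 2 from rfl, pow_add]
      refine Ideal.mul_mem_mul (Submodule.sum_mem _ fun i hi => ?_) hσL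
      have hi' : i ≤ K := Nat.lt_succ_iff.mp (Finset.mem_range.mp hi)
      have := Ideal.mul_mem_mul (Ideal.pow_mem_pow hsf1 i) (Ideal.pow_mem_pow hL (K - i))
      rw [← pow_add, Nat.add_sub_of_le hi'] at this
      simpa using this
    simpa using sub_mem hsf h1
  have hLh : L.IsHomogeneous 1 := by
    refine MvPolynomial.IsHomogeneous.sum _ _ _ fun i _ => ?_
    rw [smul_eq_C_mul]
    exact (isHomogeneous_X k i).C_mul _
  have hL0 : L = 0 := by
    by_contra hne
    have hne' : L ^ K ≠ 0 := pow_ne_zero K hne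
    obtain ⟨α, hα⟩ := ne_zero_iff.mp hne'
    have hdeg : α.degree = K := by
      have := (hLh.pow K) hα
      rw [one_mul] at this
      rw [← this]
      exact (Finsupp.degree_eq_weight_one (R := ℕ) ▸ rfl)
    exact hα ((mem_pow_idealOfVars_iff' (K + 1) _).mp hLK α (by omega))
  have hc0 : ∀ i, i ∉ S → c i = 0 := by
    intro i hi
    have := congrArg (fun F => coeff (Finsupp.single i 1) F) hL0
    simp only [L, coeff_sum, coeff_smul, coeff_X', coeff_zero] at this
    rw [Finset.sum_eq_single i (fun l _ hl => by simp [hl, Finsupp.single_left_inj (one_ne_zero : (1 : ℕ) ≠ 0)]) (fun h => absurd (Finset.mem_univ i) h)] at this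
    simpa [hi] using this
  have hfx : aeval x f ∈ m ^ 2 ⊔ Ideal.span {t} := by
    have h1 := RedSm.aeval_mem_pow ε x hx 2 hc
    rw [map_sub, map_sum] at h1
    have h2 : ∑ i, aeval x (c i • X i : MvPolynomial (Fin d) k) ∈ Ideal.span {t} := by
      refine Submodule.sum_mem _ fun i _ => ?_
      rw [map_smul, aeval_X]
      by_cases hi : i ∈ S
      · exact Submodule.smul_of_tower_mem _ _ (hS i hi)
      · rw [hc0 i hi, zero_smul]; exact zero_mem _
    have h3 := add_mem (Submodule.mem_sup_left (T := Ideal.span {t}) h1) (Submodule.mem_sup_right (S := m ^ 2) h2)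
    rwa [sub_add_cancel] at h3
  rcases K with _ | K
  · rw [pow_zero] at hb
    have h1 : ε (b * t) = 1 := by rw [hb, map_one]
    rw [map_mul, show ε t = 0 from h0, mul_zero] at h1
    exact absurd h1 zero_ne_one
  have h4 := add_mem (Submodule.mem_sup_left (T := Ideal.span {t}) (Ideal.pow_le_pow_right (by omega) hf : _ ∈ m ^ 2)) hfx
  rwa [sub_add_cancel] at h4

end Groth.Agent.UnipExt
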