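import Mathlib.RingTheory.Bialgebra.Basic
import Mathlib.RingTheory.PowerBasis
import Mathlib.Algebra.Polynomial.Expand
import Mathlib.FieldTheory.Perfect
import Mathlib.LinearAlgebra.Basis.VectorSpace
import Mathlib.RingTheory.TensorProduct.Basic

/-!
# The minimal polynomial of a primitive element
-/

universe u v

open Polynomial TensorProduct

namespace Groth.Agent.UnipExt

/-- If the inner binomial coefficients vanish then the power is additive. -/
theorem add_pow_of_mid {k : Type*} [CommRing k] {R : Type*} [CommRing R] [Algebra k R] {i : ℕ} (h0 : 0 < i)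
    (h : ∀ l, 0 < l → l < i → ((i.choose l : ℕ) : k) = 0) (a b : R) : (a + b) ^ i = a ^ i + b ^ i := by
  rw [add_pow]
  have hR : ∀ l, 0 < l → l < i → ((i.choose l : ℕ) : R) = 0 := fun l h1 h2 => by
    rw [← map_natCast (algebraMap k R), h l h1 h2, map_zero]
  rw [Finset.sum_eq_add (s := Finset.range (i + 1)) i 0 h0.ne' ?_ (fun h => absurd (Finset.mem_range.2 (by omega)) h)
    (fun h => absurd (Finset.mem_range.2 (by omega)) h)]
  · simp
  · intro l hl hne
    rw [Finset.mem_range] at hl
    rw [hR l (by omega) (by omega), mul_zero]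

variable {k : Type u} [Field k] {T : Type v} [CommRing T] [Algebra k T]

/-- Coordinate functionals on low powers. -/
theorem exists_coord {t : T} {n : ℕ} (h : LinearIndependent k fun i : Fin n => t ^ (i : ℕ)) (l : Fin n) :
    ∃ φ : T →ₗ[k] k, ∀ j : ℕ, j < n → φ (t ^ j) = if j = (l : ℕ) then 1 else 0 := by
  obtain ⟨φ, hφ⟩ := LinearMap.exists_extend (Finsupp.lapply l ∘ₗ h.repr)
  refine ⟨φ, fun j hj => ?_⟩
  have hmem : t ^ j ∈ Submodule.span k (Set.range fun i : Fin n => t ^ (i : ℕ)) := Submodule.subset_span ⟨⟨j, hj⟩, rfl⟩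
  have := LinearMap.congr_fun hφ ⟨t ^ j, hmem⟩
  simp only [LinearMap.comp_apply, Submodule.subtype_apply] at this
  rw [this, h.repr_eq_single ⟨j, hj⟩ ⟨_, hmem⟩ rfl, Finsupp.lapply_apply, Finsupp.single_apply]
  simp only [Fin.ext_iff]

variable {T : Type v} [CommRing T] [Bialgebra k T] {t : T}

theorem counit_eq_zero_of_prim (h : CoalgebraStruct.comul (R := k) t = t ⊗ₜ[k] (1 : T) + (1 : T) ⊗ₜ[k] t) :
    CoalgebraStruct.counit (R := k) t = (0 : k) := by
  have h1 := congrArg (TensorProduct.lid k k ∘ (CoalgebraStruct.counit (R := k) (A := T)).lTensor k)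
    (Coalgebra.rTensor_counit_comul (R := k) t)
  rw [h] at h1
  simpa using h1

theorem mid_of_mem_support (h : CoalgebraStruct.comul (R := k) t = t ⊗ₜ[k] (1 : T) + (1 : T) ⊗ₜ[k] t)
    (hint : IsIntegral k t) {i : ℕ} (hi : i ∈ (minpoly k t).support) :
    0 < i ∧ ∀ l, 0 < l → l < i → ((i.choose l : ℕ) : k) = 0 := by
  classical
  have haeval : ∑ j ∈ (minpoly k t).support, (minpoly k t).coeff j • t ^ j = 0 := by
    have := minpoly.aeval k t
    rwa [aeval_eq_sum_range' (Nat.lt_succ_self _), ← Finset.sum_subset (s₁ := (minpoly k t).support) ?_ ?_] at this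
    · exact supp_subset_range_natDegree_succ
    · intro j _ hj
      rw [notMem_support_iff.mp hj, zero_smul]
  have hpos : ∀ j ∈ (minpoly k t).support, 0 < j := fun j hj => Nat.pos_of_ne_zero fun h0 => by
    subst h0
    refine mem_support_iff.mp hj ?_
    have h1 := congrArg (Bialgebra.counitAlgHom k T) haeval
    simp only [map_sum, map_smul, map_pow, Bialgebra.counitAlgHom_apply, counit_eq_zero_of_prim h, map_zero] at h1
    rw [Finset.sum_eq_single 0 (fun j _ hj => by simp [zero_pow hj]) (fun h => absurd hj h)] at h1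
    simpa using h1
  refine ⟨hpos i hi, fun l hl hli => ?_⟩
  have hiQ : i ≤ (minpoly k t).natDegree := le_natDegree_of_mem_supp i hi
  obtain ⟨φ, hφ⟩ := exists_coord (linearIndependent_pow (K := k) t) ⟨l, by omega⟩
  obtain ⟨φ', hφ'⟩ := exists_coord (linearIndependent_pow (K := k) t) ⟨i - l, by omega⟩
  have h2 := congrArg (fun z : T => TensorProduct.lid k k (TensorProduct.map φ φ'
    (Bialgebra.comulAlgHom k T z))) haeval
  simp only [map_sum, map_smul, map_pow, Bialgebra.comulAlgHom_apply, h, map_zero] at h2
  rw [Finset.sum_eq_single i ?_ (fun h => absurd hi h)] at h2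
  · rw [add_pow, map_sum, map_sum, Finset.sum_eq_single l ?_ (fun h => absurd (Finset.mem_range.2 (by omega)) h)] at h2
    · rw [Algebra.TensorProduct.tmul_pow, Algebra.TensorProduct.tmul_pow, Algebra.TensorProduct.tmul_mul_tmul,
        one_pow, one_pow, one_mul, mul_one, ← nsmul_eq_mul', map_nsmul, map_nsmul, TensorProduct.map_tmul,
        TensorProduct.lid_tmul, hφ l (by omega), hφ' (i - l) (by omega)] at h2
      simp [nsmul_eq_mul, hφ l (by omega), hφ' (i - l) (by omega), mem_support_iff.mp hi] at h2
      exact h2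
    · intro b hb hbl
      rw [Finset.mem_range] at hb
      rw [Algebra.TensorProduct.tmul_pow, Algebra.TensorProduct.tmul_pow, Algebra.TensorProduct.tmul_mul_tmul,
        one_pow, one_pow, one_mul, mul_one, ← nsmul_eq_mul', map_nsmul, map_nsmul, TensorProduct.map_tmul,
        TensorProduct.lid_tmul]
      by_cases hb' : b < (minpoly k t).natDegree
      · rw [hφ b hb', if_neg hbl, zero_smul, smul_zero]
      · have h0 : i - b = 0 := by omega
        rw [h0, hφ' 0 (by omega), if_neg (by simp; omega), smul_zero, smul_zero]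
  · intro j hj hji
    have hjQ : j ≤ (minpoly k t).natDegree := le_natDegree_of_mem_supp j hj
    rw [add_pow, map_sum, map_sum, Finset.sum_eq_zero, smul_zero]
    intro b hb
    rw [Finset.mem_range] at hb
    rw [Algebra.TensorProduct.tmul_pow, Algebra.TensorProduct.tmul_pow, Algebra.TensorProduct.tmul_mul_tmul,
      one_pow, one_pow, one_mul, mul_one, ← nsmul_eq_mul', map_nsmul, map_nsmul, TensorProduct.map_tmul,
      TensorProduct.lid_tmul]
    by_cases hb' : b < (minpoly k t).natDegree
    · rw [hφ b hb']
      by_cases hbl : b = l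
      · rw [hφ' (j - b) (by omega), if_neg (show j - b ≠ i - l by omega), smul_zero, smul_zero]
      · rw [if_neg (show b ≠ (⟨l, by omega⟩ : Fin (minpoly k t).natDegree).1 from hbl), zero_smul, smul_zero]
    · have h0 : j - b = 0 := by omega
      rw [h0, hφ' 0 (by omega), if_neg (show (0 : ℕ) ≠ i - l by omega), smul_zero, smul_zero]

theorem cast_eq_zero_of_mem_support (h : CoalgebraStruct.comul (R := k) t = t ⊗ₜ[k] (1 : T) + (1 : T) ⊗ₜ[k] t)
    (hint : IsIntegral k t) {i : ℕ} (hi : i ∈ (minpoly k t).support) (h1 : 1 < i) : ((i : ℕ) : k) = 0 := by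
  simpa using (mid_of_mem_support h hint hi).2 1 one_pos h1

theorem one_mem_support [PerfectField k] [IsReduced T] [Nontrivial T]
    (h : CoalgebraStruct.comul (R := k) t = t ⊗ₜ[k] (1 : T) + (1 : T) ⊗ₜ[k] t) (hint : IsIntegral k t) :
    1 ∈ (minpoly k t).support := by
  by_contra hne
  set P := minpoly k t
  have hder : derivative P = 0 := by
    ext m
    rw [coeff_derivative, coeff_zero]
    by_cases hm : m + 1 ∈ P.support
    · rcases Nat.eq_zero_or_pos m with rfl | hm0
      · exact absurd hm hne
      · have := cast_eq_zero_of_mem_support h hint hm (by omega)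
        rw [show (m : k) + 1 = ((m + 1 : ℕ) : k) by push_cast; ring, this, mul_zero]
    · rw [notMem_support_iff.mp hm, zero_mul]
  have hPmonic := minpoly.monic hint
  obtain ⟨p, hp⟩ := ExpChar.exists k
  have hexp := expand_contract' p hder
  cases hp with
  | zero =>
    have : P.natDegree = 0 := natDegree_eq_zero_of_derivative_eq_zero hder
    exact absurd this (minpoly.natDegree_pos hint).ne'
  | prime hprime =>
    haveI : ExpChar k p := .prime hprime
    haveI : PerfectRing k p := PerfectField.toPerfectRing p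
    let R : k[X] := (contract p P).map (frobeniusEquiv k p).symm.toRingHom
    have hR : R ^ p = P := by
      rw [← map_frobenius_expand, ← Polynomial.map_expand, hexp]
      ext m
      simp [R, Polynomial.coeff_map]
    have h0 : Polynomial.aeval t R = 0 := by
      refine (IsNilpotent.eq_zero (R := T) ⟨p, ?_⟩)
      rw [← map_pow, hR, minpoly.aeval]
    have hne0 : R ≠ 0 := fun e => hPmonic.ne_zero (by show P = 0; rw [← hR, e, zero_pow hprime.ne_zero])
    have hle : P.natDegree ≤ R.natDegree := natDegree_le_of_dvd (minpoly.dvd k t h0) hne0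
    have hdeg : P.natDegree = p * R.natDegree := by rw [← hR, natDegree_pow]
    have hpos : 0 < P.natDegree := minpoly.natDegree_pos hint
    have := hprime.two_le
    nlinarith

end Groth.Agent.UnipExt
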