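import Groth.Agent.UnipExt.Prim
import Groth.Agent.ComodLib.HopfSubInv
import Groth.Agent.MultTypeLib.HopfKer
import Groth.Prelude.Def_Dyn
import Mathlib.RingTheory.Coalgebra.GroupLike
import Mathlib.RingTheory.Bialgebra.GroupLike
import Mathlib.RingTheory.HopfAlgebra.GroupLike
import Mathlib.RingTheory.HopfAlgebra.Convolution
import Mathlib.FieldTheory.IsAlgClosed.Basic

/-!
# Hopf algebras generated by a diagonalisable one and a skew primitive element
-/

universe u

open Polynomial TensorProduct WithConv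

namespace Groth.Agent.UnipExt

/-- The invariant functional of a Hopf algebra spanned by group-like elements. -/
theorem exists_integral {k : Type u} [Field k] {B : Type u} [CommRing B] [HopfAlgebra k B]
    (hB : Submodule.span k {g : B | IsGroupLikeElem k g} = ⊤) :
    ∃ lam : B →ₗ[k] k, lam 1 = 1 ∧
      ∀ b, TensorProduct.rid k B (lam.lTensor B (CoalgebraStruct.comul (R := k) b)) = lam b • (1 : B) := by
  classical
  let e : Module.Basis {g : B | IsGroupLikeElem k g} k B :=
    Module.Basis.mk linearIndepOn_isGroupLikeElem (by simp [hB])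
  have he : ∀ g, e g = g.1 := fun g => Module.Basis.mk_apply _ _ g
  let one' : {g : B | IsGroupLikeElem k g} := ⟨1, IsGroupLikeElem.one⟩
  refine ⟨e.coord one', ?_, ?_⟩
  · rw [show (1 : B) = e one' from (he one').symm, Module.Basis.coord_apply, Module.Basis.repr_self,
      Finsupp.single_eq_same]
  · refine LinearMap.congr_fun (f := (TensorProduct.rid k B).toLinearMap ∘ₗ (e.coord one').lTensor B ∘ₗ
      CoalgebraStruct.comul (R := k) (A := B)) (g := (e.coord one').smulRight (1 : B)) (e.ext fun h => ?_)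
    simp only [LinearMap.comp_apply, LinearMap.smulRight_apply, LinearEquiv.coe_coe]
    rw [he, h.2.comul_eq_tmul_self, LinearMap.lTensor_tmul, TensorProduct.rid_tmul, ← he,
      Module.Basis.coord_apply, Module.Basis.repr_self, Finsupp.single_apply]
    by_cases hh : h = one'
    · rw [if_pos hh, one_smul, one_smul, hh, he]
    · rw [if_neg hh, zero_smul, zero_smul]

variable {k : Type u} [Field k] {C B : Type u} [CommRing C] [HopfAlgebra k C] [CommRing B] [HopfAlgebra k B]

/-- `C` is generated by the image of `B` and the skew primitive `x`; `J` cuts out the kernel. -/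
structure Step (ψ : B →ₐc[k] C) (x : C) (g : B) (J : Ideal C) : Prop where
  inj : Function.Injective ψ
  groupLike : IsGroupLikeElem k g
  comul_x : CoalgebraStruct.comul (R := k) x = x ⊗ₜ[k] (1 : C) + ψ g ⊗ₜ[k] x
  span : Submodule.span k {g : B | IsGroupLikeElem k g} = ⊤
  gen : Algebra.adjoin k (Set.range ψ ∪ {x}) = ⊤
  ideal : J = Ideal.map (ψ : B →+* C) (RingHom.ker (Bialgebra.counitAlgHom k B))

namespace Step

variable {ψ : B →ₐc[k] C} {x : C} {g : B} {J : Ideal C}

section

variable (s : Step ψ x g J)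
include s

theorem isHopf : J.IsHopfIdeal k := s.ideal ▸ MultTypeLib.isHopfIdeal_map_ker ψ

theorem mk_apply (b : B) :
    Ideal.Quotient.mkₐ k J (ψ b) = algebraMap k (C ⧸ J) (CoalgebraStruct.counit (R := k) b) := by
  rw [← (Ideal.Quotient.mkₐ k J).commutes, ← sub_eq_zero, ← map_sub]
  refine Ideal.Quotient.eq_zero_iff_mem.mpr ?_
  rw [s.ideal, show algebraMap k C (CoalgebraStruct.counit (R := k) b) =
    (ψ : B →+* C) (algebraMap k B (CoalgebraStruct.counit (R := k) b)) from ((ψ : B →ₐ[k] C).commutes _).symm]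
  show (ψ : B →+* C) b - _ ∈ _
  rw [← map_sub]
  exact Ideal.mem_map_of_mem _ (by simp [RingHom.mem_ker])

theorem nontrivial_quot : Nontrivial (C ⧸ J) := by
  haveI := s.isHopf
  exact (Bialgebra.counitAlgHom k (C ⧸ J)).toRingHom.domain_nontrivial

theorem nontrivial_base : Nontrivial B :=
  (Bialgebra.counitAlgHom k B).toRingHom.domain_nontrivial

theorem surjective_aeval : Function.Surjective (Polynomial.aeval (R := k) (Ideal.Quotient.mkₐ k J x)) := by
  refine (AlgHom.range_eq_top _).mp (eq_top_iff.mpr ?_)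
  have h : (⊤ : Subalgebra k (C ⧸ J)) ≤ Algebra.adjoin k ((Ideal.Quotient.mkₐ k J) '' (Set.range ψ ∪ {x})) := by
    rw [← AlgHom.map_adjoin, s.gen, Algebra.map_top]
    exact le_of_eq (AlgHom.range_eq_top _ |>.mpr Ideal.Quotient.mk_surjective).symm
  refine h.trans (Algebra.adjoin_le ?_)
  rintro _ ⟨y, ⟨b, rfl⟩ | rfl, rfl⟩
  · rw [s.mk_apply]
    exact Subalgebra.algebraMap_mem _ _
  · exact ⟨X, aeval_X _⟩

theorem surjective_tower : Function.Surjective (Polynomial.aevalTower (ψ : B →ₐ[k] C) x) := by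
  refine (AlgHom.range_eq_top _).mp (eq_top_iff.mpr ?_)
  rw [← s.gen]
  refine Algebra.adjoin_le ?_
  rintro w (⟨b, rfl⟩ | (hw : w = x))
  · exact ⟨Polynomial.C b, aevalTower_C _ _ _⟩
  · subst hw; exact ⟨X, aevalTower_X _ _⟩

/-- `(id ⊗ π) ∘ Δ` on the image of `B`. -/
theorem coact_apply (b : B) :
    Algebra.TensorProduct.map (AlgHom.id k C) (Ideal.Quotient.mkₐ k J) (Bialgebra.comulAlgHom k C (ψ b)) =
      ψ b ⊗ₜ[k] (1 : C ⧸ J) := by
  rw [Bialgebra.comulAlgHom_apply, ← CoalgHomClass.map_comp_comul_apply ψ b]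
  conv_rhs => rw [← one_smul k b, ← TensorProduct.rid_tmul, ← Coalgebra.lTensor_counit_comul (R := k) b]
  generalize CoalgebraStruct.comul (R := k) b = z
  induction z using TensorProduct.induction_on with
  | zero => simp
  | add p q hp hq => simp only [map_add, hp, hq, TensorProduct.add_tmul]
  | tmul p q =>
    rw [TensorProduct.map_tmul, Algebra.TensorProduct.map_tmul, LinearMap.lTensor_tmul, TensorProduct.rid_tmul]
    show ψ p ⊗ₜ[k] Ideal.Quotient.mkₐ k J (ψ q) = _
    rw [s.mk_apply, Algebra.algebraMap_eq_smul_one, TensorProduct.tmul_smul, map_smul, TensorProduct.smul_tmul']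

theorem coact_x :
    Algebra.TensorProduct.map (AlgHom.id k C) (Ideal.Quotient.mkₐ k J) (Bialgebra.comulAlgHom k C x) =
      x ⊗ₜ[k] (1 : C ⧸ J) + ψ g ⊗ₜ[k] Ideal.Quotient.mkₐ k J x := by
  rw [Bialgebra.comulAlgHom_apply, s.comul_x, map_add, Algebra.TensorProduct.map_tmul,
    Algebra.TensorProduct.map_tmul, map_one]
  rfl

theorem comul_mk [J.IsHopfIdeal k] :
    CoalgebraStruct.comul (R := k) (Ideal.Quotient.mkₐ k J x) =
      Ideal.Quotient.mkₐ k J x ⊗ₜ[k] (1 : C ⧸ J) + (1 : C ⧸ J) ⊗ₜ[k] Ideal.Quotient.mkₐ k J x := by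
  show Algebra.TensorProduct.map (Ideal.Quotient.mkₐ k J) (Ideal.Quotient.mkₐ k J)
    (CoalgebraStruct.comul (R := k) x) = _
  rw [s.comul_x, map_add, Algebra.TensorProduct.map_tmul, Algebra.TensorProduct.map_tmul, map_one, s.mk_apply,
    s.groupLike.counit_eq_one, map_one]

/-- There are no relations of low degree. -/
theorem eq_zero_of_relation {n : ℕ}
    (h : LinearIndependent k fun i : Fin n => Ideal.Quotient.mkₐ k J x ^ (i : ℕ)) {b : ℕ → B}
    (hb : ∑ i ∈ Finset.range n, ψ (b i) * x ^ i = 0) : ∀ i < n, b i = 0 := by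
  classical
  induction n with
  | zero => intro i hi; omega
  | succ n ih =>
    obtain ⟨φ, hφ⟩ := exists_coord h ⟨n, Nat.lt_succ_self n⟩
    let D : C →ₐ[k] C ⊗[k] (C ⧸ J) :=
      (Algebra.TensorProduct.map (AlgHom.id k C) (Ideal.Quotient.mkₐ k J)).comp (Bialgebra.comulAlgHom k C)
    let E : C ⊗[k] (C ⧸ J) →ₗ[k] C := (TensorProduct.rid k C).toLinearMap ∘ₗ φ.lTensor C
    have hE : ∀ (c : C) (y : C ⧸ J), E (c ⊗ₜ[k] y) = φ y • c := fun c y => by
      show TensorProduct.rid k C (φ.lTensor C (c ⊗ₜ[k] y)) = _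
      rw [LinearMap.lTensor_tmul, TensorProduct.rid_tmul]
    have hterm : ∀ i ≤ n, E (D (ψ (b i) * x ^ i)) = if i = n then ψ (b i) * ψ g ^ i else 0 := fun i hi => by
      show E (_ ) = _
      rw [map_mul, map_pow]
      show E (Algebra.TensorProduct.map _ _ (Bialgebra.comulAlgHom k C (ψ (b i))) *
        (Algebra.TensorProduct.map _ _ (Bialgebra.comulAlgHom k C x)) ^ i) = _
      rw [s.coact_apply, s.coact_x, add_pow, Finset.mul_sum, map_sum]
      rw [Finset.sum_eq_single 0 ?_ (fun h => absurd (Finset.mem_range.2 (by omega)) h)]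
      · rw [pow_zero, one_mul, Nat.choose_zero_right, Nat.cast_one, mul_one, Nat.sub_zero,
          Algebra.TensorProduct.tmul_pow, Algebra.TensorProduct.tmul_mul_tmul, one_mul, hE,
          hφ i (by omega)]
        by_cases hin : i = n
        · rw [if_pos hin, if_pos hin, one_smul]
        · rw [if_neg hin, if_neg hin, zero_smul]
      · intro l hl hl0
        rw [Finset.mem_range] at hl
        rw [← nsmul_eq_mul', mul_smul_comm, map_nsmul, Algebra.TensorProduct.tmul_pow,
          Algebra.TensorProduct.tmul_pow, Algebra.TensorProduct.tmul_mul_tmul, Algebra.TensorProduct.tmul_mul_tmul,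
          one_pow, one_mul, one_mul, hE, hφ _ (by omega), if_neg (show i - l ≠ n by omega), zero_smul, smul_zero]
    have h1 := congrArg (fun c => E (D c)) hb
    simp only [map_sum, map_zero] at h1
    rw [Finset.sum_congr rfl fun i hi => hterm i (by rw [Finset.mem_range] at hi; omega),
      Finset.sum_ite_eq' , if_pos (Finset.self_mem_range_succ n)] at h1
    have hbn : b n = 0 := by
      have h2 : ψ (b n * g ^ n) = ψ 0 := by rw [map_mul, map_pow, map_zero, h1]
      exact (s.groupLike.pow.isUnit.mul_left_eq_zero).mp (s.inj h2)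
    intro i hi
    rcases Nat.lt_or_ge i n with hin | hin
    · refine ih (h.comp Fin.castSucc (Fin.castSucc_injective n)) ?_ i hin
      rw [Finset.sum_range_succ, hbn, map_zero, zero_mul, add_zero] at hb
      exact hb
    · rw [show i = n by omega, hbn]


theorem exists_relation [Algebra.FiniteType k B] [Algebra.FiniteType k C] [J.IsHopfIdeal k]
    (hint : IsIntegral k (Ideal.Quotient.mkₐ k J x)) :
    ∃ (b : B) (c : k), Polynomial.aeval x (minpoly k (Ideal.Quotient.mkₐ k J x)) = ψ b ∧
      (∀ i ∈ (minpoly k (Ideal.Quotient.mkₐ k J x)).support,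
        g ^ i = g ^ (minpoly k (Ideal.Quotient.mkₐ k J x)).natDegree) ∧
      b = c • (1 - g ^ (minpoly k (Ideal.Quotient.mkₐ k J x)).natDegree) := by
  classical
  have ht := s.comul_mk
  generalize hπdef : Ideal.Quotient.mkₐ k J = π at hint ht ⊢
  have hπψ : ∀ b, π (ψ b) = algebraMap k (C ⧸ J) (CoalgebraStruct.counit (R := k) b) := hπdef ▸ s.mk_apply
  set t := π x with ht'
  set P := minpoly k t with hP
  set Q := P.natDegree with hQ
  obtain ⟨m, hmdef⟩ : ∃ m : ℕ → B, ∀ i, m i = g ^ Q * HopfAlgebraStruct.antipode (R := k) g ^ i :=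
    ⟨_, fun _ => rfl⟩
  have hm : ∀ i, m i * g ^ i = g ^ Q := fun i => by
    rw [hmdef]
    rw [mul_assoc, ← mul_pow, s.groupLike.antipode_mul_cancel, one_pow, mul_one]
  have hmgl : ∀ i, IsGroupLikeElem k (m i) := fun i => hmdef i ▸ s.groupLike.pow.mul s.groupLike.antipode.pow
  have hΔx : ∀ i ∈ P.support, CoalgebraStruct.comul (R := k) (x ^ i) =
      (x ^ i) ⊗ₜ[k] (1 : C) + ψ (g ^ i) ⊗ₜ[k] (x ^ i) := fun i hi => by
    obtain ⟨hi0, hmid⟩ := mid_of_mem_support ht hint hi
    rw [← Bialgebra.comulAlgHom_apply, map_pow, Bialgebra.comulAlgHom_apply, s.comul_x,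
      add_pow_of_mid hi0 hmid, Algebra.TensorProduct.tmul_pow, Algebra.TensorProduct.tmul_pow, one_pow, map_pow]
  let y : C := ∑ i ∈ P.support, P.coeff i • (ψ (m i) * x ^ i)
  have hsum : ∑ i ∈ P.support, P.coeff i • t ^ i = 0 := by
    have := minpoly.aeval k t
    rwa [← hP, aeval_eq_sum_range' (Nat.lt_succ_self _), ← Finset.sum_subset (s₁ := P.support) ?_ ?_] at this
    · exact supp_subset_range_natDegree_succ
    · intro j _ hj
      rw [notMem_support_iff.mp hj, zero_smul]
  have hΔy : CoalgebraStruct.comul (R := k) y =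
      (∑ i ∈ P.support, P.coeff i • ((ψ (m i) * x ^ i) ⊗ₜ[k] ψ (m i))) +
        ∑ i ∈ P.support, P.coeff i • (ψ (g ^ Q) ⊗ₜ[k] (ψ (m i) * x ^ i)) := by
    rw [map_sum, ← Finset.sum_add_distrib]
    refine Finset.sum_congr rfl fun i hi => ?_
    rw [map_smul, ← Bialgebra.comulAlgHom_apply, map_mul, Bialgebra.comulAlgHom_apply, Bialgebra.comulAlgHom_apply,
      hΔx i hi, ← CoalgHomClass.map_comp_comul_apply ψ (m i), (hmgl i).comul_eq_tmul_self, TensorProduct.map_tmul]
    show _ • ((ψ (m i) ⊗ₜ[k] ψ (m i)) * _) = _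
    rw [mul_add, Algebra.TensorProduct.tmul_mul_tmul, Algebra.TensorProduct.tmul_mul_tmul, mul_one, ← map_mul, hm,
      smul_add]
  -- `y` is invariant, hence comes from `B`
  have hπy : ∑ i ∈ P.support, P.coeff i • π (ψ (m i) * x ^ i) = 0 := by
    rw [← hsum]
    refine Finset.sum_congr rfl fun i _ => ?_
    rw [map_mul, map_pow, hπψ, (hmgl i).counit_eq_one, map_one, one_mul]
  have hinv : (π.toLinearMap.lTensor C) (CoalgebraStruct.comul (R := k) y - y ⊗ₜ[k] (1 : C)) = 0 := by
    have e1 : (π.toLinearMap.lTensor C) (CoalgebraStruct.comul (R := k) y) = y ⊗ₜ[k] (1 : C ⧸ J) := by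
      rw [hΔy, map_add, map_sum, map_sum]
      simp only [map_smul, LinearMap.lTensor_tmul, AlgHom.toLinearMap_apply]
      have e3 : ∀ i, π (ψ (m i)) = 1 := fun i => by rw [hπψ, (hmgl i).counit_eq_one, map_one]
      simp only [e3, ← TensorProduct.tmul_smul, ← TensorProduct.tmul_sum, hπy, TensorProduct.tmul_zero, add_zero]
      simp only [y, TensorProduct.sum_tmul, TensorProduct.smul_tmul', TensorProduct.tmul_smul]
    rw [map_sub, e1, LinearMap.lTensor_tmul, AlgHom.toLinearMap_apply, map_one, sub_self]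
  obtain ⟨b, hb⟩ := ComodLib.mem_range_of_comul_sub_mem ψ s.inj y (by
    rw [← s.ideal]
    refine (Module.Flat.lTensor_exact C (f := (J.restrictScalars k).subtype) (g := π.toLinearMap) ?_ _).mp hinv
    intro c
    subst hπdef
    exact ⟨fun h => ⟨⟨c, Ideal.Quotient.eq_zero_iff_mem.mp h⟩, rfl⟩,
      fun ⟨⟨d, hd⟩, hd'⟩ => hd' ▸ Ideal.Quotient.eq_zero_iff_mem.mpr hd⟩)
  -- the twisting characters are trivial
  have hm1 : ∀ i ∈ P.support, i < Q → m i = 1 := by
    intro i hi hiQ
    have hl : π.toLinearMap.rTensor C (CoalgebraStruct.comul (R := k) (ψ b)) = (1 : C ⧸ J) ⊗ₜ[k] ψ b := by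
      rw [← CoalgHomClass.map_comp_comul_apply ψ b]
      conv_rhs => rw [← one_smul k b, ← TensorProduct.lid_tmul, ← Coalgebra.rTensor_counit_comul (R := k) b]
      generalize CoalgebraStruct.comul (R := k) b = z
      induction z using TensorProduct.induction_on with
      | zero => simp
      | add p q hp hq => simp only [map_add, hp, hq, TensorProduct.tmul_add]
      | tmul p q =>
        rw [TensorProduct.map_tmul, LinearMap.rTensor_tmul, LinearMap.rTensor_tmul, TensorProduct.lid_tmul,
          AlgHom.toLinearMap_apply]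
        show π (ψ p) ⊗ₜ[k] ψ q = _
        rw [hπψ, Algebra.algebraMap_eq_smul_one, map_smul, TensorProduct.smul_tmul]
    rw [hb, hΔy, map_add, map_sum, map_sum] at hl
    have e2 : ∑ i ∈ P.support, π.toLinearMap.rTensor C (P.coeff i • (ψ (g ^ Q) ⊗ₜ[k] (ψ (m i) * x ^ i))) =
        (1 : C ⧸ J) ⊗ₜ[k] y := by
      simp only [map_smul, LinearMap.rTensor_tmul, AlgHom.toLinearMap_apply, hπψ, (s.groupLike.pow).counit_eq_one,
        map_one, y, TensorProduct.tmul_sum, TensorProduct.tmul_smul]
    rw [e2, add_eq_right] at hl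
    have e4 : ∑ i ∈ P.support, P.coeff i • ((t ^ i) ⊗ₜ[k] (ψ (m i) - 1)) = 0 := by
      simp only [TensorProduct.tmul_sub, smul_sub, Finset.sum_sub_distrib]
      rw [show ∑ i ∈ P.support, P.coeff i • ((t ^ i) ⊗ₜ[k] (1 : C)) = 0 by
        simp only [TensorProduct.smul_tmul', ← TensorProduct.sum_tmul, hsum, TensorProduct.zero_tmul], sub_zero]
      rw [← hl]
      refine Finset.sum_congr rfl fun i _ => ?_
      rw [map_smul, LinearMap.rTensor_tmul, AlgHom.toLinearMap_apply, map_mul, map_pow, hπψ,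
        (hmgl i).counit_eq_one, map_one, one_mul]
    obtain ⟨φ, hφ⟩ := exists_coord (linearIndependent_pow (K := k) t) ⟨i, hiQ⟩
    have h5 := congrArg (fun z => TensorProduct.lid k C (φ.rTensor C z)) e4
    simp only [map_sum, map_smul, LinearMap.rTensor_tmul, TensorProduct.lid_tmul, map_zero] at h5
    rw [Finset.sum_eq_single i ?_ (fun h => absurd hi h), hφ i hiQ, if_pos rfl, one_smul,
      smul_eq_zero, sub_eq_zero] at h5
    · exact s.inj ((h5.resolve_left (mem_support_iff.mp hi)).trans (map_one ψ).symm)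
    · intro j hj hji
      rcases (le_natDegree_of_mem_supp j hj).lt_or_eq with hjQ | hjQ
      · rw [hφ j hjQ, if_neg hji, zero_smul, smul_zero]
      · have hmj : m j = 1 := by
          rw [hmdef, hjQ, ← mul_pow, s.groupLike.mul_antipode_cancel, one_pow]
        rw [hmj, map_one, sub_self, smul_zero, smul_zero]
  have hgi : ∀ i ∈ P.support, g ^ i = g ^ Q := fun i hi => by
    rcases (le_natDegree_of_mem_supp i hi).lt_or_eq with hiQ | hiQ
    · rw [← hm i, hm1 i hi hiQ, one_mul]
    · rw [hiQ]
  have hmone : ∀ i ∈ P.support, m i = 1 := fun i hi => by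
    rw [hmdef, ← hgi i hi, ← mul_pow, s.groupLike.mul_antipode_cancel, one_pow]
  have hy : y = Polynomial.aeval x P := by
    rw [aeval_eq_sum_range' (Nat.lt_succ_self _), ← Finset.sum_subset (s₁ := P.support) supp_subset_range_natDegree_succ
      (fun j _ hj => by rw [notMem_support_iff.mp hj, zero_smul])]
    exact Finset.sum_congr rfl fun i hi => by rw [hmone i hi, map_one, one_mul]
  have hΔb : CoalgebraStruct.comul (R := k) b = b ⊗ₜ[k] (1 : B) + (g ^ Q) ⊗ₜ[k] b := by
    refine TensorProduct.map_injective_of_flat_flat (ψ : B →ₐ[k] C).toLinearMap (ψ : B →ₐ[k] C).toLinearMap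
      s.inj s.inj ?_
    refine (CoalgHomClass.map_comp_comul_apply ψ b).trans ?_
    rw [map_add, TensorProduct.map_tmul, TensorProduct.map_tmul, hb, hΔy]
    show _ = ψ b ⊗ₜ[k] ψ 1 + ψ (g ^ Q) ⊗ₜ[k] ψ b
    rw [hb, map_one]
    simp only [y, TensorProduct.sum_tmul, TensorProduct.tmul_sum, TensorProduct.smul_tmul', TensorProduct.tmul_smul]
    congr 1
    exact Finset.sum_congr rfl fun i hi => by rw [hmone i hi, map_one]
  obtain ⟨lam, h1, hlam⟩ := exists_integral s.span
  refine ⟨b, lam b, by rw [← hy, hb], hgi, ?_⟩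
  have := hlam b
  rw [hΔb, map_add, map_add, LinearMap.lTensor_tmul, LinearMap.lTensor_tmul, TensorProduct.rid_tmul,
    TensorProduct.rid_tmul, h1, one_smul] at this
  rw [smul_sub, ← this]
  abel

theorem mem_ker_tower_iff [Algebra.FiniteType k B] [Algebra.FiniteType k C] [J.IsHopfIdeal k] {z : B}
    (hz : IsIntegral k (Ideal.Quotient.mkₐ k J x) →
      ψ (Polynomial.aeval z (minpoly k (Ideal.Quotient.mkₐ k J x))) =
        Polynomial.aeval x (minpoly k (Ideal.Quotient.mkₐ k J x)))
    {f : B[X]} (hf : Polynomial.aevalTower (ψ : B →ₐ[k] C) x f = 0) : f.eval z = 0 := by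
  classical
  have := s.nontrivial_base
  have := s.nontrivial_quot
  have key : ∀ {n : ℕ}, LinearIndependent k (fun i : Fin n => Ideal.Quotient.mkₐ k J x ^ (i : ℕ)) →
      ∀ r : B[X], Polynomial.aevalTower (ψ : B →ₐ[k] C) x r = 0 → (∀ i, n ≤ i → r.coeff i = 0) → r = 0 := by
    intro n hn r hr hcoef
    have hr' : ∑ i ∈ Finset.range n, ψ (r.coeff i) * x ^ i = 0 := by
      rw [← hr]
      conv_rhs => rw [r.as_sum_support, map_sum]
      rw [Finset.sum_subset (s₁ := r.support) (s₂ := Finset.range n) (fun i hi => Finset.mem_range.mpr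
        (by by_contra hni; exact mem_support_iff.mp hi (hcoef i (not_lt.mp hni))))]
      · refine Finset.sum_congr rfl fun i _ => ?_
        rw [← C_mul_X_pow_eq_monomial, map_mul, map_pow, aevalTower_C, aevalTower_X]
        rfl
      · intro i _ hi
        rw [notMem_support_iff.mp hi, map_zero, map_zero]
    ext i
    rcases Nat.lt_or_ge i n with hi | hi
    · simpa using s.eq_zero_of_relation hn hr' i hi
    · simpa using hcoef i hi
  set t := Ideal.Quotient.mkₐ k J x
  by_cases hint : IsIntegral k t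
  · set P := minpoly k t
    let R : B[X] := P.map (algebraMap k B) - Polynomial.C (Polynomial.aeval z P)
    have hR : R.Monic := (minpoly.monic hint).map _ |>.sub_of_left (degree_C_le.trans_lt (by
      rw [(minpoly.monic hint).degree_map]
      exact natDegree_pos_iff_degree_pos.mp (minpoly.natDegree_pos hint)))
    have hΦR : Polynomial.aevalTower (ψ : B →ₐ[k] C) x R = 0 := by
      rw [map_sub, aevalTower_C, sub_eq_zero]
      show _ = ψ _
      rw [hz hint]
      induction P using Polynomial.induction_on' with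
      | add p q hp hq => rw [Polynomial.map_add, map_add, map_add, hp, hq]
      | monomial n a =>
        rw [Polynomial.map_monomial, ← C_mul_X_pow_eq_monomial, map_mul, map_pow, aevalTower_C, aevalTower_X,
          AlgHomClass.commutes, aeval_monomial]
    have hRz : R.eval z = 0 := by
      simp [R, Polynomial.eval_map, Polynomial.aeval_def]
    have hmod : f %ₘ R = 0 := by
      refine key (linearIndependent_pow (K := k) t) _ ?_ fun i hi => ?_
      · rw [modByMonic_eq_sub_mul_div f R, map_sub, map_mul, hΦR, zero_mul, sub_zero, hf]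
      · refine coeff_eq_zero_of_degree_lt ((degree_modByMonic_lt f hR).trans_le ?_)
        refine (degree_sub_le _ _).trans (max_le ?_ ((degree_C_le).trans (by exact_mod_cast Nat.zero_le i)))
        rw [(minpoly.monic hint).degree_map, degree_eq_natDegree (minpoly.monic hint).ne_zero]
        exact_mod_cast hi
    rw [← modByMonic_add_div f R, hmod, zero_add, eval_mul, hRz, zero_mul]
  · have hinj : Function.Injective (Polynomial.aeval (R := k) t) :=
      transcendental_iff_injective.mp fun h => hint (isAlgebraic_iff_isIntegral.mp h)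
    have hn : LinearIndependent k fun i : Fin (f.natDegree + 1) => t ^ (i : ℕ) := by
      have := ((Polynomial.basisMonomials k).linearIndependent.map' (Polynomial.aeval (R := k) t).toLinearMap
        (LinearMap.ker_eq_bot.mpr hinj)).comp (fun i : Fin (f.natDegree + 1) => (i : ℕ)) Fin.val_injective
      have e : ∀ i : ℕ, Polynomial.aeval (R := k) t (Polynomial.basisMonomials k i) = t ^ i := fun i => by
        simp
      simpa [Function.comp_def, e] using this
    rw [key hn f hf fun i hi => coeff_eq_zero_of_natDegree_lt (by omega), eval_zero]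

theorem exists_retraction [IsAlgClosed k] [Algebra.FiniteType k B] [Algebra.FiniteType k C] :
    ∃ r : C →ₐc[k] B, ∀ b, r (ψ b) = b := by
  classical
  haveI := s.isHopf
  have := s.nontrivial_quot
  obtain ⟨c, hc⟩ : ∃ c : k, IsIntegral k (Ideal.Quotient.mkₐ k J x) →
      ψ (Polynomial.aeval (c • (1 - g)) (minpoly k (Ideal.Quotient.mkₐ k J x))) =
        Polynomial.aeval x (minpoly k (Ideal.Quotient.mkₐ k J x)) := by
    by_cases hint : IsIntegral k (Ideal.Quotient.mkₐ k J x)
    · set t := Ideal.Quotient.mkₐ k J x with ht'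
      obtain ⟨b, c', hb, hgi, hbc⟩ := s.exists_relation hint
      have hd : (minpoly k t - Polynomial.C c').degree ≠ 0 := by
        rw [degree_sub_eq_left_of_degree_lt (degree_C_le.trans_lt
          (natDegree_pos_iff_degree_pos.mp (minpoly.natDegree_pos hint)))]
        exact (natDegree_pos_iff_degree_pos.mp (minpoly.natDegree_pos hint)).ne'
      obtain ⟨c, hc⟩ := IsAlgClosed.exists_root _ hd
      refine ⟨c, fun _ => ?_⟩
      rw [IsRoot, eval_sub, eval_C, sub_eq_zero, eval_eq_sum, Polynomial.sum] at hc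
      rw [hb, hbc, aeval_def, eval₂_eq_sum, Polynomial.sum]
      congr 1
      rw [← hc, Finset.sum_smul]
      refine Finset.sum_congr rfl fun i hi => ?_
      obtain ⟨hi0, hmid⟩ := mid_of_mem_support s.comul_mk hint hi
      rw [← hgi i hi, _root_.smul_pow, ← Algebra.smul_def, smul_smul]
      congr 1
      rw [eq_sub_iff_add_eq, ← add_pow_of_mid hi0 hmid (1 - g) g, sub_add_cancel, one_pow]
    · exact ⟨0, fun h => absurd h hint⟩
  set z : B := c • (1 - g) with hzdef
  let Φ := Polynomial.aevalTower (ψ : B →ₐ[k] C) x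
  let r₀ : C →+* B := RingHom.liftOfSurjective Φ.toRingHom s.surjective_tower
    ⟨Polynomial.evalRingHom z, fun f hf => s.mem_ker_tower_iff hc hf⟩
  have hr : ∀ f, r₀ (Φ f) = f.eval z := fun f => RingHom.liftOfRightInverse_comp_apply _ _ _ _ f
  have hrψ : ∀ b, r₀ (ψ b) = b := fun b => by
    have := hr (Polynomial.C b)
    rw [eval_C] at this
    rwa [show Φ (Polynomial.C b) = ψ b from aevalTower_C _ _ _] at this
  have hrx : r₀ x = z := by
    have := hr X
    rw [eval_X] at this
    rwa [show Φ X = x from aevalTower_X _ _] at this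
  let r : C →ₐ[k] B :=
    { r₀ with
      commutes' := fun a => (show r₀ (algebraMap k C a) = algebraMap k B a by
        rw [← (ψ : B →ₐ[k] C).commutes]
        exact hrψ _) }
  refine ⟨BialgHom.ofAlgHom r ?_ ?_, hrψ⟩
  · refine AlgHom.ext_of_adjoin_eq_top s.gen ?_
    rintro w (⟨b, rfl⟩ | (hw : w = x))
    · show CoalgebraStruct.counit (R := k) (r₀ (ψ b)) = CoalgebraStruct.counit (R := k) (ψ b)
      rw [hrψ, CoalgHomClass.counit_comp_apply]
    · rw [hw]
      show CoalgebraStruct.counit (R := k) (r₀ x) = CoalgebraStruct.counit (R := k) x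
      have h1 := congrArg (fun w => Bialgebra.counitAlgHom k C (TensorProduct.rid k C (w))) 
        (Coalgebra.lTensor_counit_comul (R := k) x)
      rw [s.comul_x] at h1
      simp [s.groupLike.counit_eq_one] at h1
      rw [hrx, h1]
      simp [z, s.groupLike.counit_eq_one]
  · refine AlgHom.ext_of_adjoin_eq_top s.gen ?_
    rintro w (⟨b, rfl⟩ | (hw : w = x))
    · show Algebra.TensorProduct.map r r (CoalgebraStruct.comul (R := k) (ψ b)) =
        CoalgebraStruct.comul (R := k) (r₀ (ψ b))
      rw [hrψ, ← CoalgHomClass.map_comp_comul_apply ψ b]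
      induction CoalgebraStruct.comul (R := k) b using TensorProduct.induction_on with
      | zero => simp
      | add p q hp hq => simp only [map_add, hp, hq]
      | tmul p q =>
        rw [TensorProduct.map_tmul, Algebra.TensorProduct.map_tmul]
        show r₀ (ψ p) ⊗ₜ[k] r₀ (ψ q) = _
        rw [hrψ, hrψ]
    · rw [hw]
      show Algebra.TensorProduct.map r r (CoalgebraStruct.comul (R := k) x) =
        CoalgebraStruct.comul (R := k) (r₀ x)
      rw [s.comul_x, map_add, Algebra.TensorProduct.map_tmul, Algebra.TensorProduct.map_tmul, hrx, map_one]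
      show r₀ x ⊗ₜ[k] (1 : B) + r₀ (ψ g) ⊗ₜ[k] r₀ x = _
      rw [hrx, hrψ, hzdef, map_smul, map_sub, Bialgebra.comul_one, s.groupLike.comul_eq_tmul_self,
        Algebra.TensorProduct.one_def]
      simp only [TensorProduct.tmul_smul, TensorProduct.sub_tmul, TensorProduct.tmul_sub, TensorProduct.smul_tmul',
        smul_sub]
      abel

theorem apply_convMul {R : Type u} [CommRing R] [Algebra k R] (f h : WithConv (C →ₐ[k] R)) :
    (f * h) x = f x + f (ψ g) * h x := by
  rw [AlgHom.convMul_apply, s.comul_x, map_add, Algebra.TensorProduct.lift_tmul, Algebra.TensorProduct.lift_tmul,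
    map_one, mul_one]

theorem exists_coord_diff [IsAlgClosed k] [Algebra.FiniteType k B] [Algebra.FiniteType k C] [J.IsHopfIdeal k]
    (hsm : IsReduced B ∨ IsReduced (C ⧸ J)) (r' r'' : C →ₐc[k] B)
    (h' : ∀ b, r' (ψ b) = b) (h'' : ∀ b, r'' (ψ b) = b) :
    ∃ c : k, r'' x = r' x + c • (1 - g) ∧ (IsIntegral k (Ideal.Quotient.mkₐ k J x) →
      (minpoly k (Ideal.Quotient.mkₐ k J x)).eval c = 0) := by
  classical
  have := s.nontrivial_quot
  obtain ⟨lam, h1, hlam⟩ := exists_integral s.span
  have hΔr : ∀ r : C →ₐc[k] B, (∀ b, r (ψ b) = b) →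
      CoalgebraStruct.comul (R := k) (r x) = r x ⊗ₜ[k] (1 : B) + g ⊗ₜ[k] r x := fun r hr => by
    rw [← CoalgHomClass.map_comp_comul_apply r x, s.comul_x, map_add, TensorProduct.map_tmul, TensorProduct.map_tmul]
    show r x ⊗ₜ[k] r 1 + r (ψ g) ⊗ₜ[k] r x = _
    rw [map_one, hr]
  set d := r'' x - r' x with hd
  have hdc : d = lam d • (1 - g) := by
    have := hlam d
    rw [hd, map_sub, hΔr r'' h'', hΔr r' h', add_sub_add_comm, ← TensorProduct.sub_tmul, ← TensorProduct.tmul_sub,
      ← hd, map_add, map_add, LinearMap.lTensor_tmul, LinearMap.lTensor_tmul, TensorProduct.rid_tmul,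
      TensorProduct.rid_tmul, h1, one_smul] at this
    rw [smul_sub, ← this]
    abel
  by_cases hint : IsIntegral k (Ideal.Quotient.mkₐ k J x)
  swap
  · exact ⟨lam d, by rw [← hdc, hd]; abel, fun h => absurd h hint⟩
  set t := Ideal.Quotient.mkₐ k J x with ht
  obtain ⟨b, -, hb, hgi, -⟩ := s.exists_relation hint
  set P := minpoly k t with hP
  have hmid : ∀ i ∈ P.support, 0 < i ∧ ∀ l, 0 < l → l < i → ((i.choose l : ℕ) : k) = 0 :=
    fun i hi => mid_of_mem_support s.comul_mk hint hi
  have hval : ∀ r : C →ₐc[k] B, (∀ b, r (ψ b) = b) → Polynomial.aeval (r x) P = b := fun r hr => by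
    conv_rhs => rw [← hr b, ← hb]
    exact Polynomial.aeval_algHom_apply (r : C →ₐ[k] B) x P
  have hsumP : ∀ w : B, Polynomial.aeval w P = ∑ i ∈ P.support, P.coeff i • w ^ i := fun w => by
    rw [aeval_eq_sum_range' (Nat.lt_succ_self _), ← Finset.sum_subset (s₁ := P.support) supp_subset_range_natDegree_succ
      (fun j _ hj => by rw [notMem_support_iff.mp hj, zero_smul])]
  have hPd : Polynomial.aeval d P = 0 := by
    have e : Polynomial.aeval (r' x + d) P = Polynomial.aeval (r' x) P + Polynomial.aeval d P := by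
      rw [hsumP, hsumP, hsumP, ← Finset.sum_add_distrib]
      exact Finset.sum_congr rfl fun i hi => by rw [add_pow_of_mid (hmid i hi).1 (hmid i hi).2, smul_add]
    rw [hd, add_sub_cancel, hval r'' h'', hval r' h'] at e
    simpa using e
  have hPc : ∀ c : k, Polynomial.aeval (c • (1 - g)) P = P.eval c • (1 - g ^ P.natDegree) := fun c => by
    rw [hsumP, eval_eq_sum, Polynomial.sum, Finset.sum_smul]
    refine Finset.sum_congr rfl fun i hi => ?_
    rw [← hgi i hi, _root_.smul_pow, smul_smul]
    congr 1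
    rw [eq_sub_iff_add_eq, ← add_pow_of_mid (hmid i hi).1 (hmid i hi).2 (1 - g) g, sub_add_cancel, one_pow]
  by_cases hg : g = 1
  · refine ⟨0, by rw [zero_smul, add_zero, ← sub_eq_zero, ← hd, hdc, hg, sub_self, smul_zero], fun _ => ?_⟩
    rw [eval_eq_sum, Polynomial.sum, Finset.sum_eq_zero]
    intro i hi
    rw [zero_pow (hmid i hi).1.ne', mul_zero]
  refine ⟨lam d, by rw [← hdc, hd]; abel, fun _ => ?_⟩
  rw [hdc, hPc, smul_eq_zero] at hPd
  refine hPd.resolve_right fun h0 => hg ?_
  have hQ : P.natDegree ∈ P.support := natDegree_mem_support_of_nonzero (minpoly.ne_zero hint)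
  rcases hsm with hB | hC
  · refine (sub_eq_zero.mp (IsNilpotent.eq_zero (R := B) ⟨P.natDegree, ?_⟩)).symm
    have := add_pow_of_mid (hmid _ hQ).1 (hmid _ hQ).2 (1 - g) g
    rw [sub_add_cancel, one_pow] at this
    rw [← h0]
    exact eq_sub_iff_add_eq.mpr this.symm
  · rw [← pow_one g, hgi 1 (one_mem_support s.comul_mk hint)]
    exact (sub_eq_zero.mp h0).symm

theorem exists_point_of_root [Algebra.FiniteType k B] [Algebra.FiniteType k C] (c : k)
    (hc : IsIntegral k (Ideal.Quotient.mkₐ k J x) → (minpoly k (Ideal.Quotient.mkₐ k J x)).eval c = 0) :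
    ∃ u : C →ₐ[k] k, (∀ a ∈ J, u a = 0) ∧ u x = c := by
  set t := Ideal.Quotient.mkₐ k J x with ht
  have hle : RingHom.ker (Polynomial.aeval (R := k) t).toRingHom ≤ RingHom.ker (Polynomial.evalRingHom c) := by
    intro f hf
    have hf' : Polynomial.aeval t f = 0 := hf
    by_cases hint : IsIntegral k t
    · obtain ⟨q, rfl⟩ := minpoly.dvd k t hf'
      simp [RingHom.mem_ker, hc hint]
    · have := transcendental_iff_injective.mp (fun h => hint (isAlgebraic_iff_isIntegral.mp h))
        (hf'.trans (map_zero (Polynomial.aeval (R := k) t)).symm)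
      simp [RingHom.mem_ker, this]
  let v₀ : C ⧸ J →+* k := RingHom.liftOfSurjective (Polynomial.aeval (R := k) t).toRingHom s.surjective_aeval
    ⟨Polynomial.evalRingHom c, hle⟩
  have hv : ∀ f, v₀ (Polynomial.aeval t f) = f.eval c := fun f => RingHom.liftOfRightInverse_comp_apply _ _ _ _ f
  let v : C ⧸ J →ₐ[k] k :=
    { v₀ with
      commutes' := fun a => (show v₀ (algebraMap k (C ⧸ J) a) = a by
        rw [← (Polynomial.aeval (R := k) t).commutes a, hv, Polynomial.algebraMap_eq, eval_C]) }
  refine ⟨v.comp (Ideal.Quotient.mkₐ k J), fun a ha => ?_, ?_⟩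
  · show v (Ideal.Quotient.mkₐ k J a) = 0
    rw [show Ideal.Quotient.mkₐ k J a = 0 from Ideal.Quotient.eq_zero_iff_mem.mpr ha, map_zero]
  · show v t = c
    have := hv X
    rwa [aeval_X, eval_X] at this

theorem exists_conj [IsAlgClosed k] [Algebra.FiniteType k B] [Algebra.FiniteType k C]
    (hsm : IsReduced B ∨ IsReduced (C ⧸ J)) (r' r'' : C →ₐc[k] B)
    (h' : ∀ b, r' (ψ b) = b) (h'' : ∀ b, r'' (ψ b) = b) :
    ∃ u : C →ₐ[k] k, (∀ a ∈ J, u a = 0) ∧ toConv (r'' : C →ₐ[k] B) =
      toConv ((Algebra.ofId k B).comp u) * toConv (r' : C →ₐ[k] B) *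
        toConv (((Algebra.ofId k B).comp u).comp (HopfAlgebra.antipodeAlgHom k C)) := by
  have := s.isHopf
  obtain ⟨c, hc, hroot⟩ := s.exists_coord_diff hsm r' r'' h' h''
  obtain ⟨u, hu, hux⟩ := s.exists_point_of_root c hroot
  have huψ : ∀ b, u (ψ b) = CoalgebraStruct.counit (R := k) b := fun b => by
    rw [← sub_eq_zero, ← hu _ (Ideal.Quotient.eq_zero_iff_mem.mp ((map_sub _ _ _).trans (sub_eq_zero.mpr
      (s.mk_apply b |>.trans ((Ideal.Quotient.mkₐ k J).commutes _).symm)))), map_sub, AlgHom.commutes]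
    rfl
  refine ⟨u, hu, WithConv.ext (AlgHom.ext_of_adjoin_eq_top s.gen ?_)⟩
  set U : WithConv (C →ₐ[k] B) := toConv ((Algebra.ofId k B).comp u) with hU
  have hinv : toConv (((Algebra.ofId k B).comp u).comp (HopfAlgebra.antipodeAlgHom k C)) = U⁻¹ := rfl
  rw [hinv]
  have hUψ : ∀ b, U (ψ b) = algebraMap k B (CoalgebraStruct.counit (R := k) b) := fun b => by
    show algebraMap k B (u (ψ b)) = _
    rw [huψ]
  have hIψ : ∀ b, U⁻¹ (ψ b) = algebraMap k B (CoalgebraStruct.counit (R := k) b) := fun b => by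
    show U ((HopfAlgebraStruct.antipode (R := k) (ψ b))) = _
    rw [GrpSchLib.HopfGalois.antipode_bialgHom, hUψ, HopfAlgebra.counit_antipode]
  have hIx : U⁻¹ x = -U x := by
    have := s.apply_convMul U U⁻¹
    rw [mul_inv_cancel, hUψ, s.groupLike.counit_eq_one, map_one, one_mul, AlgHom.convOne_apply] at this
    have hx0 : CoalgebraStruct.counit (R := k) x = 0 := by
      have h1 := congrArg (fun w => Bialgebra.counitAlgHom k C (TensorProduct.rid k C w))
        (Coalgebra.lTensor_counit_comul (R := k) x)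
      rw [s.comul_x] at h1
      simp [s.groupLike.counit_eq_one] at h1
      exact h1
    rw [hx0, map_zero] at this
    exact eq_neg_of_add_eq_zero_right this.symm
  rintro w (⟨b, rfl⟩ | (hw : w = x))
  · show r'' (ψ b) = _
    rw [h'']
    have h1 := congrArg (fun f : WithConv (B →ₐ[k] B) => f b)
      (show toConv ((U * toConv (r' : C →ₐ[k] B) * U⁻¹).ofConv.comp (ψ : B →ₐ[k] C)) = toConv (AlgHom.id k B) by
        rw [AlgHom.convMul_comp_bialgHom_distrib, AlgHom.convMul_comp_bialgHom_distrib]
        have e1 : U.ofConv.comp (ψ : B →ₐ[k] C) = (1 : WithConv (B →ₐ[k] B)).ofConv :=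
          AlgHom.ext fun b => hUψ b
        have e2 : U⁻¹.ofConv.comp (ψ : B →ₐ[k] C) = (1 : WithConv (B →ₐ[k] B)).ofConv :=
          AlgHom.ext fun b => hIψ b
        have e3 : (r' : C →ₐ[k] B).comp (ψ : B →ₐ[k] C) = AlgHom.id k B := AlgHom.ext h'
        simp only [e1, e2, e3, WithConv.toConv_ofConv, one_mul, mul_one])
    exact h1.symm
  · rw [hw]
    show r'' x = (U * toConv (r' : C →ₐ[k] B) * U⁻¹) x
    rw [s.apply_convMul (U * _), s.apply_convMul U, hIx, hc]
    have e5 : (U * toConv (r' : C →ₐ[k] B)) (ψ g) = g := by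
      rw [AlgHom.convMul_apply, ← CoalgHomClass.map_comp_comul_apply ψ g, s.groupLike.comul_eq_tmul_self,
        TensorProduct.map_tmul]
      show Algebra.TensorProduct.lift _ _ _ (ψ g ⊗ₜ[k] ψ g) = g
      rw [Algebra.TensorProduct.lift_tmul]
      show U (ψ g) * r' (ψ g) = g
      rw [hUψ, h', s.groupLike.counit_eq_one, map_one, one_mul]
    rw [e5, hUψ, s.groupLike.counit_eq_one, map_one, one_mul]
    show _ = U x + r' x + g * -U x
    rw [show U x = algebraMap k B c from congrArg (algebraMap k B) hux, Algebra.algebraMap_eq_smul_one, smul_sub,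
      mul_neg, mul_smul_comm, mul_one]
    abel

end

end Step

end Groth.Agent.UnipExt
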