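import Groth.Agent.UnipExt.Step
import Groth.Agent.GrpSchLib.SubHopf
import Groth.Agent.GrpSchLib.SimpleFinite
import Mathlib.RingTheory.Bialgebra.Quotient
import Mathlib.RingTheory.HopfAlgebra.Quotient
import Mathlib.RingTheory.Finiteness.Subalgebra

/-!
# Retractions onto a diagonalisable Hopf subalgebra along a triangular system of generators
-/

universe u

open TensorProduct

namespace Groth.Agent.UnipExt

variable {k : Type u} [Field k] {A B : Type u} [CommRing A] [HopfAlgebra k A] [CommRing B] [HopfAlgebra k B]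

theorem counit_skew {x G : A} (hG : IsGroupLikeElem k G)
    (h : CoalgebraStruct.comul (R := k) x = x ⊗ₜ[k] (1 : A) + G ⊗ₜ[k] x) :
    CoalgebraStruct.counit (R := k) x = (0 : k) := by
  have h1 := congrArg (fun w => Bialgebra.counitAlgHom k A (TensorProduct.rid k A w))
    (Coalgebra.lTensor_counit_comul (R := k) x)
  rw [h] at h1
  simpa [hG.counit_eq_one] using h1

theorem antipode_skew {x G : A} (hG : IsGroupLikeElem k G)
    (h : CoalgebraStruct.comul (R := k) x = x ⊗ₜ[k] (1 : A) + G ⊗ₜ[k] x) :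
    HopfAlgebraStruct.antipode (R := k) x = -(HopfAlgebraStruct.antipode (R := k) G * x) := by
  have h1 := HopfAlgebra.mul_antipode_rTensor_comul_apply (R := k) x
  rw [h, counit_skew hG h, map_zero] at h1
  simpa [eq_neg_iff_add_eq_zero] using h1

theorem isHopfIdeal_span_skew {x G : A} (hG : IsGroupLikeElem k G)
    (h : CoalgebraStruct.comul (R := k) x = x ⊗ₜ[k] (1 : A) + G ⊗ₜ[k] x) :
    (Ideal.span {x}).IsHopfIdeal k := by
  let I : Ideal A := Ideal.span {x}
  have hmem : x ∈ I := Ideal.subset_span rfl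
  let q := Ideal.Quotient.mkₐ k I
  have hq : q x = 0 := Ideal.Quotient.eq_zero_iff_mem.mpr hmem
  refine @Ideal.IsHopfIdeal.mk _ _ _ _ _ I ⟨fun z hz => ?_, fun z hz => ?_⟩ fun z hz => ?_
  · obtain ⟨a, rfl⟩ := Ideal.mem_span_singleton.mp hz
    rw [Bialgebra.counit_mul, counit_skew hG h, zero_mul]
  · obtain ⟨a, rfl⟩ := Ideal.mem_span_singleton.mp hz
    show TensorProduct.map q.toLinearMap q.toLinearMap (CoalgebraStruct.comul (R := k) (x * a)) = 0
    show Algebra.TensorProduct.map q q (CoalgebraStruct.comul (R := k) (x * a)) = 0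
    rw [Bialgebra.comul_mul, map_mul, h, map_add, Algebra.TensorProduct.map_tmul, Algebra.TensorProduct.map_tmul, hq,
      TensorProduct.zero_tmul, TensorProduct.tmul_zero, add_zero, zero_mul]
  · obtain ⟨a, rfl⟩ := Ideal.mem_span_singleton.mp hz
    rw [HopfAlgebra.antipode_mul_distrib, antipode_skew hG h]
    exact Ideal.mul_mem_right _ _ (I.neg_mem (Ideal.mul_mem_left _ _ hmem))

/-- A Hopf algebra spanned by group-like elements which embeds into one of finite type is of finite type. -/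
theorem finiteType_of_injective [Algebra.FiniteType k A]
    (hB : Submodule.span k {g : B | IsGroupLikeElem k g} = ⊤) (ψ : B →ₐc[k] A) (hψ : Function.Injective ψ) :
    Algebra.FiniteType k B := by
  classical
  haveI : IsNoetherianRing A := Algebra.FiniteType.isNoetherianRing k A
  let G := {g : B // IsGroupLikeElem k g}
  let I : Finset G → Ideal A := fun S => Ideal.span ((fun h : G => ψ h.1 - 1) '' (S : Set G))
  obtain ⟨_, ⟨S, rfl⟩, hmax⟩ := set_has_maximal_iff_noetherian.mpr
    (inferInstance : IsNoetherian A A) (Set.range I) ⟨_, ∅, rfl⟩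
  let T : Set B := Subtype.val '' (S : Set G) ∪
    HopfAlgebraStruct.antipode (R := k) '' (Subtype.val '' (S : Set G))
  have hTgl : ∀ t ∈ T, IsGroupLikeElem k t := by
    rintro t (⟨g, -, rfl⟩ | ⟨_, ⟨g, -, rfl⟩, rfl⟩)
    exacts [g.2, g.2.antipode]
  let C : Subalgebra k B := Algebra.adjoin k T
  have hC : SGA3.IsHopfSubalgebra k B C := by
    constructor
    · intro b hb
      have : C ≤ ((Algebra.TensorProduct.map C.val C.val).range).comap (Bialgebra.comulAlgHom k B) := by
        refine Algebra.adjoin_le fun t ht => ?_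
        refine ⟨⟨t, Algebra.subset_adjoin ht⟩ ⊗ₜ ⟨t, Algebra.subset_adjoin ht⟩, ?_⟩
        simp [(hTgl t ht).comul_eq_tmul_self]
      obtain ⟨z, hz⟩ := this hb
      exact ⟨z, hz⟩
    · intro b hb
      refine (Algebra.adjoin_le (S := C.comap (HopfAlgebra.antipodeAlgHom k B)) fun t ht => ?_) hb
      rcases ht with ⟨g, hg, rfl⟩ | ⟨_, ⟨g, hg, rfl⟩, rfl⟩
      · exact Algebra.subset_adjoin (Or.inr ⟨_, ⟨g, hg, rfl⟩, rfl⟩)
      · show HopfAlgebraStruct.antipode (R := k) (HopfAlgebraStruct.antipode (R := k) g.1) ∈ C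
        rw [g.2.antipode_antipode]
        exact Algebra.subset_adjoin (Or.inl ⟨g, hg, rfl⟩)
  have hfg : C.FG := Subalgebra.fg_def.mpr
    ⟨T, (S.finite_toSet.image _).union ((S.finite_toSet.image _).image _), rfl⟩
  letI := GrpSchLib.SubHopf.hopf C hC
  haveI : Algebra.FiniteType k C := (Subalgebra.fg_iff_finiteType C).mp hfg
  let j : C →ₐc[k] B := BialgHom.ofAlgHom C.val rfl (AlgHom.ext fun c => GrpSchLib.SubHopf.map_comulRes C hC c)
  suffices h : (⊤ : Subalgebra k B) ≤ C from ⟨eq_top_iff.mpr h ▸ hfg⟩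
  intro b _
  have hb : b ∈ Submodule.span k {g : B | IsGroupLikeElem k g} := hB ▸ Submodule.mem_top
  refine (Submodule.span_le.mpr (fun h hh => ?_) : _ ≤ Subalgebra.toSubmodule C) hb
  have hle : I S ≤ I (insert ⟨h, hh⟩ S) := Ideal.span_mono (Set.image_mono (by simp))
  have heq : I (insert ⟨h, hh⟩ S) = I S :=
    (eq_of_le_of_not_lt hle fun hlt => hmax _ ⟨_, rfl⟩ hlt).symm
  have hmem : ψ h - 1 ∈ I S := heq ▸ Ideal.subset_span ⟨⟨h, hh⟩, by simp, rfl⟩
  have hIJ : I S ≤ Ideal.map ((ψ.comp j : C →ₐc[k] A) : C →+* A) (RingHom.ker (Bialgebra.counitAlgHom k C)) := by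
    refine Ideal.span_le.mpr ?_
    rintro _ ⟨g, hg, rfl⟩
    let gC : C := ⟨g.1, Algebra.subset_adjoin (Or.inl ⟨g, hg, rfl⟩)⟩
    show ψ g.1 - 1 ∈ _
    rw [show ψ g.1 - 1 = ((ψ.comp j : C →ₐc[k] A) : C →+* A) (gC - 1) by rw [map_sub, map_one]; rfl]
    refine Ideal.mem_map_of_mem _ ?_
    rw [RingHom.mem_ker, map_sub, map_one, sub_eq_zero]
    exact g.2.counit_eq_one
  obtain ⟨c, hc⟩ := ComodLib.mem_range_of_comul_sub_mem (ψ.comp j) (hψ.comp Subtype.val_injective) (ψ h) (by
    rw [← CoalgHomClass.map_comp_comul_apply ψ h, hh.comul_eq_tmul_self, TensorProduct.map_tmul]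
    show ψ h ⊗ₜ[k] ψ h - _ ∈ _
    rw [← TensorProduct.tmul_sub]
    exact ⟨ψ h ⊗ₜ[k] ⟨ψ h - 1, hIJ hmem⟩, rfl⟩)
  rw [← hψ hc]
  exact c.2

/-- The subalgebra generated by `B` and the generators before `i`. -/
def pre (ψ : B →ₐc[k] A) {n : ℕ} (xs : Fin n → A) (i : Fin n) : Subalgebra k A :=
  Algebra.adjoin k (Set.range ψ ∪ xs '' {j | j < i})

/-- A triangular system of generators over `B`. -/
structure IsTower (ψ : B →ₐc[k] A) {n : ℕ} (xs : Fin n → A) : Prop where
  inj : Function.Injective ψ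
  gen : Algebra.adjoin k (Set.range ψ ∪ Set.range xs) = ⊤
  tri : ∀ i, ∃ g h : B, IsGroupLikeElem k g ∧ IsGroupLikeElem k h ∧
    CoalgebraStruct.comul (R := k) (xs i) - xs i ⊗ₜ[k] ψ h - ψ g ⊗ₜ[k] xs i ∈
      LinearMap.range (TensorProduct.map (pre ψ xs i).val.toLinearMap (pre ψ xs i).val.toLinearMap)

theorem exists_normal (hB : Submodule.span k {g : B | IsGroupLikeElem k g} = ⊤) (ψ : B →ₐc[k] A)
    (hψ : Function.Injective ψ) (x : A) {g h : B} (hg : IsGroupLikeElem k g) (hh : IsGroupLikeElem k h)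
    (w : B ⊗[k] B) (hx : CoalgebraStruct.comul (R := k) x - x ⊗ₜ[k] ψ h - ψ g ⊗ₜ[k] x =
      TensorProduct.map (ψ : B →ₐ[k] A).toLinearMap (ψ : B →ₐ[k] A).toLinearMap w) :
    ∃ (g' b : B) (x' : A), IsGroupLikeElem k g' ∧
      CoalgebraStruct.comul (R := k) x' = x' ⊗ₜ[k] (1 : A) + ψ g' ⊗ₜ[k] x' ∧ x = (x' - ψ b) * ψ h := by
  obtain ⟨lam, h1, hlam⟩ := exists_integral hB
  obtain ⟨σ, hσ⟩ := (ψ : B →ₐ[k] A).toLinearMap.exists_leftInverse_of_injective (LinearMap.ker_eq_bot.mpr hψ)
  let Λ : A →ₗ[k] k := lam ∘ₗ σ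
  have hΛ : ∀ b, Λ (ψ b) = lam b := fun b => congrArg lam (LinearMap.congr_fun hσ b)
  let E : A ⊗[k] A →ₗ[k] A := (TensorProduct.rid k A).toLinearMap ∘ₗ Λ.lTensor A
  have hE : ∀ p q, E (p ⊗ₜ[k] q) = Λ q • p := fun p q => by simp [E]
  let Θ : A →ₗ[k] A := E ∘ₗ CoalgebraStruct.comul
  have hΘ : ∀ c, CoalgebraStruct.comul (R := k) (Θ c) = Θ.lTensor A (CoalgebraStruct.comul (R := k) c) := by
    intro c
    have e1 : ∀ z : A ⊗[k] A, CoalgebraStruct.comul (R := k) (E z) = E.lTensor A
        (TensorProduct.assoc k A A A ((CoalgebraStruct.comul (R := k) (A := A)).rTensor A z)) := by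
      intro z
      induction z using TensorProduct.induction_on with
      | zero => simp
      | add p q hp hq => simp only [map_add, hp, hq]
      | tmul p q =>
        rw [LinearMap.rTensor_tmul, hE, map_smul]
        induction CoalgebraStruct.comul (R := k) p using TensorProduct.induction_on with
        | zero => simp
        | add a b ha hb => simp only [TensorProduct.add_tmul, map_add, smul_add, ha, hb]
        | tmul a b =>
          rw [TensorProduct.assoc_tmul, LinearMap.lTensor_tmul, hE, TensorProduct.tmul_smul]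
    show CoalgebraStruct.comul (R := k) (E _) = _
    rw [e1, show TensorProduct.assoc k A A A ((CoalgebraStruct.comul (R := k) (A := A)).rTensor A
      (CoalgebraStruct.comul (R := k) c)) = (CoalgebraStruct.comul (R := k) (A := A)).lTensor A
      (CoalgebraStruct.comul (R := k) c) from LinearMap.congr_fun (Coalgebra.coassoc (R := k) (A := A)) c,
      ← LinearMap.comp_apply, ← LinearMap.lTensor_comp]
  have hΘψ : ∀ b, Θ (ψ b) = lam b • (1 : A) := fun b => by
    show E (CoalgebraStruct.comul (R := k) (ψ b)) = _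
    rw [← CoalgHomClass.map_comp_comul_apply ψ b,
      show lam b • (1 : A) = (ψ : B →ₐ[k] A) (lam b • (1 : B)) by rw [map_smul, map_one], ← hlam b]
    induction CoalgebraStruct.comul (R := k) b using TensorProduct.induction_on with
    | zero => simp
    | add p q hp hq => simp only [map_add, hp, hq]
    | tmul p q =>
      rw [TensorProduct.map_tmul, LinearMap.lTensor_tmul, TensorProduct.rid_tmul, map_smul, hE]
      show Λ (ψ q) • ψ p = _
      rw [hΛ]
      rfl
  let hi : B := HopfAlgebraStruct.antipode (R := k) h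
  let g' : B := g * hi
  let x₁ : A := x * ψ hi
  let w₁ : B ⊗[k] B := w * (hi ⊗ₜ[k] hi)
  have hΔhi : CoalgebraStruct.comul (R := k) (ψ hi) = ψ hi ⊗ₜ[k] ψ hi := by
    rw [← CoalgHomClass.map_comp_comul_apply ψ, hh.antipode.comul_eq_tmul_self, TensorProduct.map_tmul]
    rfl
  have hx₁ : CoalgebraStruct.comul (R := k) x₁ = x₁ ⊗ₜ[k] (1 : A) + ψ g' ⊗ₜ[k] x₁ +
      TensorProduct.map (ψ : B →ₐ[k] A).toLinearMap (ψ : B →ₐ[k] A).toLinearMap w₁ := by
    have e : CoalgebraStruct.comul (R := k) x = x ⊗ₜ[k] ψ h + ψ g ⊗ₜ[k] x +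
        TensorProduct.map (ψ : B →ₐ[k] A).toLinearMap (ψ : B →ₐ[k] A).toLinearMap w := by
      rw [← hx]; abel
    rw [Bialgebra.comul_mul, e, hΔhi, add_mul, add_mul, Algebra.TensorProduct.tmul_mul_tmul,
      Algebra.TensorProduct.tmul_mul_tmul, ← map_mul, hh.mul_antipode_cancel, map_one, ← map_mul]
    congr 1
    show Algebra.TensorProduct.map (ψ : B →ₐ[k] A) (ψ : B →ₐ[k] A) w *
      Algebra.TensorProduct.map (ψ : B →ₐ[k] A) (ψ : B →ₐ[k] A) (hi ⊗ₜ[k] hi) = _
    rw [← map_mul]
    rfl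
  let b : B := TensorProduct.rid k B (lam.lTensor B w₁)
  have hb : Θ x₁ = x₁ + Λ x₁ • ψ g' + ψ b := by
    show E _ = _
    rw [hx₁, map_add, map_add, hE, hE, ← (map_one ψ), hΛ, h1, one_smul]
    congr 1
    show E _ = (ψ : B →ₐ[k] A) (TensorProduct.rid k B (lam.lTensor B w₁))
    clear hx₁
    induction w₁ using TensorProduct.induction_on with
    | zero => simp
    | add p q hp hq => simp only [map_add, hp, hq]
    | tmul p q =>
      rw [TensorProduct.map_tmul, LinearMap.lTensor_tmul, TensorProduct.rid_tmul, map_smul, hE]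
      show Λ (ψ q) • ψ p = _
      rw [hΛ]
      rfl
  refine ⟨g', b, x₁ + ψ b, hg.mul hh.antipode, ?_, ?_⟩
  · have e := hΘ x₁
    rw [hb] at e
    conv_rhs at e => rw [hx₁]
    rw [map_add (Θ.lTensor A), map_add (Θ.lTensor A), LinearMap.lTensor_tmul, LinearMap.lTensor_tmul,
      show Θ (1 : A) = 1 by rw [← map_one ψ, hΘψ, h1, one_smul, map_one], hb,
      map_add (CoalgebraStruct.comul (R := k) (A := A))] at e
    have hgl : CoalgebraStruct.comul (R := k) (ψ g') = ψ g' ⊗ₜ[k] ψ g' := by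
      rw [← CoalgHomClass.map_comp_comul_apply ψ, (hg.mul hh.antipode).comul_eq_tmul_self, TensorProduct.map_tmul]
      rfl
    have e2 : Θ.lTensor A (TensorProduct.map (ψ : B →ₐ[k] A).toLinearMap (ψ : B →ₐ[k] A).toLinearMap w₁) =
        ψ b ⊗ₜ[k] (1 : A) := by
      show _ = (ψ : B →ₐ[k] A) (TensorProduct.rid k B (lam.lTensor B w₁)) ⊗ₜ[k] (1 : A)
      clear hx₁ e hb
      induction w₁ using TensorProduct.induction_on with
      | zero => simp
      | add p q hp hq => simp only [map_add, TensorProduct.add_tmul, hp, hq]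
      | tmul p q =>
        rw [TensorProduct.map_tmul, LinearMap.lTensor_tmul, LinearMap.lTensor_tmul, TensorProduct.rid_tmul, map_smul]
        show ψ p ⊗ₜ[k] Θ (ψ q) = _
        rw [hΘψ, TensorProduct.tmul_smul, TensorProduct.smul_tmul']
        rfl
    rw [e2] at e
    simp only [map_add, map_smul, hgl, TensorProduct.tmul_add, TensorProduct.tmul_smul, TensorProduct.add_tmul] at e ⊢
    linear_combination (norm := abel) e
  · show x = (x * ψ hi + ψ b - ψ b) * ψ h
    rw [add_sub_cancel_right, mul_assoc, ← map_mul, hh.antipode_mul_cancel, map_one, mul_one]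

/-- Retractions exist along triangular systems of generators. -/
theorem exists_retraction_of_tower [IsAlgClosed k] [Algebra.FiniteType k B]
    (hB : Submodule.span k {g : B | IsGroupLikeElem k g} = ⊤) :
    ∀ (n : ℕ) (A : Type u) [CommRing A] [HopfAlgebra k A] [Algebra.FiniteType k A] (ψ : B →ₐc[k] A)
      (xs : Fin n → A), IsTower ψ xs → ∃ r : A →ₐc[k] B, ∀ b, r (ψ b) = b := by
  intro n
  induction n with
  | zero =>
    intro A _ _ _ ψ xs ht
    have hsurj : Function.Surjective ψ := by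
      have h := ht.gen
      rw [Set.range_eq_empty xs, Set.union_empty] at h
      intro a
      have hle : Algebra.adjoin k (Set.range ψ) ≤ (ψ : B →ₐ[k] A).range := Algebra.adjoin_le fun _ hy => hy
      exact hle (h ▸ Algebra.mem_top)
    let e := BialgEquiv.ofBijective ψ ⟨ht.inj, hsurj⟩
    exact ⟨e.symm.toBialgHom, fun b => e.symm_apply_apply b⟩
  | succ n ih =>
    intro A _ _ _ ψ xs ht
    obtain ⟨g, h, hg, hh, htri⟩ := ht.tri 0
    have hpre : pre ψ xs 0 = (ψ : B →ₐ[k] A).range := by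
      refine le_antisymm (Algebra.adjoin_le ?_) ?_
      · rintro _ (⟨b, rfl⟩ | ⟨j, hj, -⟩)
        · exact ⟨b, rfl⟩
        · exact absurd hj (Fin.not_lt_zero j)
      · rintro _ ⟨b, rfl⟩
        exact Algebra.subset_adjoin (Or.inl ⟨b, rfl⟩)
    obtain ⟨w, hw⟩ : ∃ w : B ⊗[k] B, TensorProduct.map (ψ : B →ₐ[k] A).toLinearMap (ψ : B →ₐ[k] A).toLinearMap w =
        CoalgebraStruct.comul (R := k) (xs 0) - xs 0 ⊗ₜ[k] ψ h - ψ g ⊗ₜ[k] xs 0 := by
      obtain ⟨z, hz⟩ := htri
      rw [← hz]
      clear hz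
      induction z using TensorProduct.induction_on with
      | zero => exact ⟨0, by simp⟩
      | add p q hp hq =>
        obtain ⟨p', hp'⟩ := hp
        obtain ⟨q', hq'⟩ := hq
        exact ⟨p' + q', by rw [map_add, map_add, hp', hq']⟩
      | tmul p q =>
        obtain ⟨p', hp'⟩ := (hpre ▸ p.2 : (p : A) ∈ (ψ : B →ₐ[k] A).range)
        obtain ⟨q', hq'⟩ := (hpre ▸ q.2 : (q : A) ∈ (ψ : B →ₐ[k] A).range)
        exact ⟨p' ⊗ₜ q', congrArg₂ (fun a b : A => a ⊗ₜ[k] b) hp' hq'⟩
    obtain ⟨g', b, x, hg', hΔx, hxs⟩ := exists_normal hB ψ ht.inj (xs 0) hg hh w hw.symm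
    have hψgl : IsGroupLikeElem k (ψ g') := ⟨by rw [CoalgHomClass.counit_comp_apply, hg'.counit_eq_one], by
      rw [← CoalgHomClass.map_comp_comul_apply ψ, hg'.comul_eq_tmul_self, TensorProduct.map_tmul]; rfl⟩
    let C : Subalgebra k A := Algebra.adjoin k (Set.range ψ ∪ {x})
    have hBC : ∀ b, ψ b ∈ C := fun b => Algebra.subset_adjoin (Or.inl ⟨b, rfl⟩)
    have hxC : x ∈ C := Algebra.subset_adjoin (Or.inr rfl)
    let ψ₀ : B →ₐ[k] C := (ψ : B →ₐ[k] A).codRestrict C hBC
    have hC : SGA3.IsHopfSubalgebra k A C := by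
      constructor
      · intro y hy
        have : C ≤ ((Algebra.TensorProduct.map C.val C.val).range).comap (Bialgebra.comulAlgHom k A) := by
          refine Algebra.adjoin_le ?_
          rintro y (⟨b, rfl⟩ | (hyx : y = x))
          · refine ⟨Algebra.TensorProduct.map ψ₀ ψ₀ (CoalgebraStruct.comul (R := k) b), ?_⟩
            show Algebra.TensorProduct.map C.val C.val _ = CoalgebraStruct.comul (R := k) (ψ b)
            rw [← CoalgHomClass.map_comp_comul_apply ψ b]
            induction CoalgebraStruct.comul (R := k) b using TensorProduct.induction_on with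
            | zero => simp
            | add p q hp hq => simp only [map_add, hp, hq]
            | tmul p q => rfl
          · refine ⟨⟨x, hxC⟩ ⊗ₜ 1 + ψ₀ g' ⊗ₜ ⟨x, hxC⟩, ?_⟩
            show Algebra.TensorProduct.map C.val C.val _ = CoalgebraStruct.comul (R := k) y
            rw [hyx, hΔx, map_add, Algebra.TensorProduct.map_tmul, Algebra.TensorProduct.map_tmul, map_one]
            rfl
        obtain ⟨z, hz⟩ := this hy
        exact ⟨z, hz⟩
      · intro y hy
        refine (Algebra.adjoin_le (S := C.comap (HopfAlgebra.antipodeAlgHom k A)) ?_) hy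
        rintro y (⟨b, rfl⟩ | (hyx : y = x))
        · show HopfAlgebraStruct.antipode (R := k) (ψ b) ∈ C
          rw [GrpSchLib.HopfGalois.antipode_bialgHom]
          exact hBC _
        · show HopfAlgebraStruct.antipode (R := k) y ∈ C
          rw [hyx, antipode_skew hψgl hΔx, GrpSchLib.HopfGalois.antipode_bialgHom]
          exact C.neg_mem (C.mul_mem (hBC _) hxC)
    have hfg : C.FG := by
      obtain ⟨s, hs⟩ := Algebra.FiniteType.out (R := k) (A := B)
      refine Subalgebra.fg_def.mpr ⟨ψ '' s ∪ {x}, (s.finite_toSet.image _).union (Set.finite_singleton x), ?_⟩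
      refine le_antisymm (Algebra.adjoin_le ?_) (Algebra.adjoin_le ?_)
      · rintro _ (⟨b, -, rfl⟩ | rfl)
        exacts [hBC b, hxC]
      · rintro _ (⟨b, rfl⟩ | rfl)
        · refine Algebra.adjoin_mono Set.subset_union_left ?_
          have : ψ b ∈ (Algebra.adjoin k (s : Set B)).map (ψ : B →ₐ[k] A) := ⟨b, hs ▸ Algebra.mem_top, rfl⟩
          rwa [AlgHom.map_adjoin] at this
        · exact Algebra.subset_adjoin (Or.inr rfl)
    letI := GrpSchLib.SubHopf.hopf C hC
    haveI : Algebra.FiniteType k C := (Subalgebra.fg_iff_finiteType C).mp hfg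
    let j : C →ₐc[k] A := BialgHom.ofAlgHom C.val rfl (AlgHom.ext fun c => GrpSchLib.SubHopf.map_comulRes C hC c)
    have hjinj : Function.Injective (Algebra.TensorProduct.map C.val C.val) :=
      GrpSchLib.SubHopf.map_val_injective _ _ Subtype.val_injective Subtype.val_injective
    let ψC : B →ₐc[k] C := BialgHom.ofAlgHom ψ₀ (AlgHom.ext fun b => CoalgHomClass.counit_comp_apply ψ b)
      (AlgHom.ext fun b => hjinj (by
        refine Eq.trans ?_ (GrpSchLib.SubHopf.map_comulRes C hC (ψ₀ b)).symm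
        show Algebra.TensorProduct.map C.val C.val
          (Algebra.TensorProduct.map ψ₀ ψ₀ (CoalgebraStruct.comul (R := k) b)) = CoalgebraStruct.comul (R := k) (ψ b)
        rw [← CoalgHomClass.map_comp_comul_apply ψ b]
        induction CoalgebraStruct.comul (R := k) b using TensorProduct.induction_on with
        | zero => simp
        | add p q hp hq => simp only [map_add, hp, hq]
        | tmul p q => rfl))
    have hstep : Step ψC (⟨x, hxC⟩ : C) g' (Ideal.map (ψC : B →+* C) (RingHom.ker (Bialgebra.counitAlgHom k B))) :=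
      { inj := fun a b e => ht.inj (congrArg Subtype.val e)
        groupLike := hg'
        comul_x := hjinj (by
          refine (GrpSchLib.SubHopf.map_comulRes C hC ⟨x, hxC⟩).trans ?_
          rw [map_add, Algebra.TensorProduct.map_tmul, Algebra.TensorProduct.map_tmul, map_one]
          exact hΔx)
        span := hB
        gen := by
          refine eq_top_iff.mpr fun c _ => ?_
          have : (c : A) ∈ (Algebra.adjoin k (Set.range ψC ∪ {(⟨x, hxC⟩ : C)})).map C.val := by
            rw [AlgHom.map_adjoin, Set.image_union, Set.image_singleton, ← Set.range_comp]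
            exact c.2
          obtain ⟨c', hc', e⟩ := this
          exact Subtype.val_injective e ▸ hc'
        ideal := rfl }
    obtain ⟨r, hr⟩ := hstep.exists_retraction
    let z : B := r ⟨x, hxC⟩
    let δC : C := ⟨x, hxC⟩ - ψC z
    have hδC : r δC = 0 := by rw [map_sub, hr, sub_self]
    let δ : A := x - ψ z
    have hδ : CoalgebraStruct.comul (R := k) δ = δ ⊗ₜ[k] (1 : A) + ψ g' ⊗ₜ[k] δ := by
      have hz : CoalgebraStruct.comul (R := k) z = z ⊗ₜ[k] (1 : B) + g' ⊗ₜ[k] z := by
        rw [← CoalgHomClass.map_comp_comul_apply r, hstep.comul_x, map_add, TensorProduct.map_tmul,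
          TensorProduct.map_tmul]
        show r _ ⊗ₜ[k] r 1 + r (ψC g') ⊗ₜ[k] r _ = _
        rw [map_one, hr]
      rw [map_sub, hΔx, ← CoalgHomClass.map_comp_comul_apply ψ, hz, map_add, TensorProduct.map_tmul,
        TensorProduct.map_tmul]
      show _ - (ψ z ⊗ₜ[k] ψ 1 + ψ g' ⊗ₜ[k] ψ z) = _
      rw [map_one, TensorProduct.sub_tmul, TensorProduct.tmul_sub]
      abel
    haveI := isHopfIdeal_span_skew hψgl hδ
    obtain ⟨π, hπ⟩ : ∃ π : A →ₐc[k] A ⧸ Ideal.span {δ}, ∀ a, π a = Ideal.Quotient.mk _ a :=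
      ⟨Bialgebra.Quotient.mkBialgHom (R := k) (Ideal.span {δ}), fun _ => rfl⟩
    let ψ₁ : B →ₐc[k] A ⧸ Ideal.span {δ} := π.comp ψ
    have hinj₁ : Function.Injective ψ₁ := by
      rw [injective_iff_map_eq_zero]
      intro b hb
      have hb' : ψ b ∈ Ideal.span {δ} := Ideal.Quotient.eq_zero_iff_mem.mp ((hπ _).symm.trans hb)
      have hff : (algebraMap C A).FaithfullyFlat := GrpSchLib.HopfFlat.faithfullyFlat j Subtype.val_injective
      haveI : Module.FaithfullyFlat C A := RingHom.faithfullyFlat_algebraMap_iff.mp hff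
      have hmem : ψC b ∈ Ideal.span {δC} := by
        rw [← Ideal.comap_map_eq_self_of_faithfullyFlat (B := A) (Ideal.span {δC}), Ideal.mem_comap, Ideal.map_span,
          Set.image_singleton]
        exact hb'
      have hle : Ideal.span {δC} ≤ RingHom.ker (r : C →ₐ[k] B) :=
        (Ideal.span_singleton_le_iff_mem _).mpr hδC
      exact (hr b).symm.trans (hle hmem)
    have hπx : π x = ψ₁ z := by
      refine sub_eq_zero.mp ?_
      show π x - π (ψ z) = 0
      rw [← map_sub]
      exact (hπ _).trans (Ideal.Quotient.eq_zero_iff_mem.mpr (Ideal.subset_span rfl))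
    have hmap : ∀ i, (pre ψ xs i).map (π : A →ₐ[k] A ⧸ Ideal.span {δ}) ≤
        Algebra.adjoin k (Set.range ψ₁ ∪ (fun j => π (xs (Fin.succ j))) '' {j | Fin.succ j < i}) := by
      intro i
      rw [pre, AlgHom.map_adjoin]
      refine Algebra.adjoin_le ?_
      rintro _ ⟨y, (⟨b, rfl⟩ | ⟨j, hj, rfl⟩), rfl⟩
      · exact Algebra.subset_adjoin (Or.inl ⟨b, rfl⟩)
      · obtain rfl | ⟨j', rfl⟩ := Fin.eq_zero_or_eq_succ j
        · refine Algebra.subset_adjoin (Or.inl ⟨(z - b) * h, ?_⟩)
          show ψ₁ ((z - b) * h) = π (xs 0)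
          rw [hxs, map_mul, map_mul, map_sub, map_sub, hπx]
          rfl
        · exact Algebra.subset_adjoin (Or.inr ⟨j', hj, rfl⟩)
    have ht₁ : IsTower ψ₁ (fun i => π (xs (Fin.succ i))) :=
      { inj := hinj₁
        gen := by
          refine eq_top_iff.mpr fun a _ => ?_
          obtain ⟨a', rfl⟩ := Ideal.Quotient.mk_surjective a
          rw [← hπ]
          have ha : π a' ∈ (Algebra.adjoin k (Set.range ψ ∪ Set.range xs)).map (π : A →ₐ[k] A ⧸ Ideal.span {δ}) :=
            ⟨a', ht.gen ▸ Algebra.mem_top, rfl⟩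
          rw [AlgHom.map_adjoin] at ha
          refine Algebra.adjoin_le ?_ ha
          rintro _ ⟨y, (⟨b, rfl⟩ | ⟨j, rfl⟩), rfl⟩
          · exact Algebra.subset_adjoin (Or.inl ⟨b, rfl⟩)
          · obtain rfl | ⟨j', rfl⟩ := Fin.eq_zero_or_eq_succ j
            · refine Algebra.subset_adjoin (Or.inl ⟨(z - b) * h, ?_⟩)
              show ψ₁ ((z - b) * h) = π (xs 0)
              rw [hxs, map_mul, map_mul, map_sub, map_sub, hπx]
              rfl
            · exact Algebra.subset_adjoin (Or.inr ⟨j', rfl⟩)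
        tri := fun i => by
          obtain ⟨gi, hi, hgi, hhi, hti⟩ := ht.tri (Fin.succ i)
          refine ⟨gi, hi, hgi, hhi, ?_⟩
          obtain ⟨y, hy⟩ := hti
          have e : CoalgebraStruct.comul (R := k) (π (xs (Fin.succ i))) - π (xs (Fin.succ i)) ⊗ₜ[k] ψ₁ hi -
              ψ₁ gi ⊗ₜ[k] π (xs (Fin.succ i)) =
              Algebra.TensorProduct.map (π : A →ₐ[k] _) (π : A →ₐ[k] _) (CoalgebraStruct.comul (R := k) (xs (Fin.succ i))
                - xs (Fin.succ i) ⊗ₜ[k] ψ hi - ψ gi ⊗ₜ[k] xs (Fin.succ i)) := by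
            rw [map_sub, map_sub, ← CoalgHomClass.map_comp_comul_apply π]
            rfl
          rw [e, ← hy]
          have hle : (pre ψ xs (Fin.succ i)).map (π : A →ₐ[k] A ⧸ Ideal.span {δ}) ≤
              pre ψ₁ (fun i => π (xs (Fin.succ i))) i := by
            refine (hmap _).trans (Algebra.adjoin_mono (Set.union_subset_union_right _ ?_))
            exact Set.image_mono fun j hj => Fin.succ_lt_succ_iff.mp hj
          clear hy e
          induction y using TensorProduct.induction_on with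
          | zero => rw [map_zero, map_zero]; exact Submodule.zero_mem _
          | add p q hp hq => rw [map_add, map_add]; exact Submodule.add_mem _ hp hq
          | tmul p q =>
            exact ⟨⟨π p, hle ⟨p, p.2, rfl⟩⟩ ⊗ₜ ⟨π q, hle ⟨q, q.2, rfl⟩⟩, rfl⟩ }
    obtain ⟨r₁, hr₁⟩ := ih _ ψ₁ _ ht₁
    exact ⟨r₁.comp π, hr₁⟩

end Groth.Agent.UnipExt
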