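import Groth.Agent.UnipExt.Tower
import Groth.Agent.UnipExt.Root

/-!
# Weight decomposition of additive functions on the kernel of a split extension
-/

universe u

open TensorProduct WithConv

namespace Groth.Agent.UnipExt

variable {k : Type u} [Field k] {A B : Type u} [CommRing A] [HopfAlgebra k A] [CommRing B] [HopfAlgebra k B]

theorem mk_comp (ψ : B →ₐc[k] A) (J : Ideal A)
    (hJ : J = Ideal.map (ψ : B →+* A) (RingHom.ker (Bialgebra.counitAlgHom k B))) :
    (Ideal.Quotient.mkₐ k J).comp (ψ : B →ₐ[k] A) = (1 : WithConv (B →ₐ[k] A ⧸ J)).ofConv := by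
  refine AlgHom.ext fun b => ?_
  show Ideal.Quotient.mk J (ψ b) = algebraMap k (A ⧸ J) (Coalgebra.counit (R := k) b)
  rw [IsScalarTower.algebraMap_apply k A (A ⧸ J)]
  refine Ideal.Quotient.eq.mpr ?_
  rw [hJ, show algebraMap k A (Coalgebra.counit (R := k) b) =
    (ψ : B →+* A) (algebraMap k B (Coalgebra.counit (R := k) b)) from ((ψ : B →ₐ[k] A).commutes _).symm]
  show (ψ : B →+* A) b - _ ∈ _
  rw [← map_sub]
  exact Ideal.mem_map_of_mem _ (by simp [RingHom.mem_ker])

theorem comulAlgHom_eq (A : Type u) [CommRing A] [HopfAlgebra k A] :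
    toConv (Bialgebra.comulAlgHom k A) = toConv (Algebra.TensorProduct.includeLeft : A →ₐ[k] A ⊗[k] A) *
      toConv (Algebra.TensorProduct.includeRight : A →ₐ[k] A ⊗[k] A) := by
  refine WithConv.ext (AlgHom.ext fun a => ?_)
  show Coalgebra.comul (R := k) a = _
  rw [AlgHom.convMul_apply]
  induction Coalgebra.comul (R := k) a using TensorProduct.induction_on with
  | zero => simp
  | tmul p q => simp
  | add p q hp hq =>
    conv_lhs => rw [hp, hq]
    rw [map_add]

theorem conv_identity {G : Type*} [Group G] (U U' P P' : G) :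
    U * U' * (P * P')⁻¹ = U * P⁻¹ * (P * (U' * P'⁻¹) * P⁻¹) := by group

theorem exists_skew_decomp (hB : Submodule.span k {g : B | IsGroupLikeElem k g} = ⊤) (ψ : B →ₐc[k] A)
    (hψ : Function.Injective ψ) (r : A →ₐc[k] B) (hr : ∀ b, r (ψ b) = b) (J : Ideal A) [J.IsHopfIdeal k]
    (hJ : J = Ideal.map (ψ : B →+* A) (RingHom.ker (Bialgebra.counitAlgHom k B))) (a : A)
    (hε : Coalgebra.counit (R := k) a = (0 : k))
    (ha : Coalgebra.comul (R := k) (Ideal.Quotient.mkₐ k J a) =
      Ideal.Quotient.mkₐ k J a ⊗ₜ[k] (1 : A ⧸ J) + (1 : A ⧸ J) ⊗ₜ[k] Ideal.Quotient.mkₐ k J a) :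
    ∃ (ι : Type u) (S : Finset ι) (g : ι → B) (y : ι → A),
      (∀ i ∈ S, IsGroupLikeElem k (g i) ∧
        Coalgebra.comul (R := k) (y i) = y i ⊗ₜ[k] (1 : A) + ψ (g i) ⊗ₜ[k] y i) ∧
      Ideal.Quotient.mkₐ k J a = ∑ i ∈ S, Ideal.Quotient.mkₐ k J (y i) := by
  classical
  let π := Ideal.Quotient.mkₐ k J
  let pc : A →ₐc[k] A := ψ.comp r
  let p : A →ₐ[k] A := (pc : A →ₐ[k] A)
  let phi : A →ₐ[k] A := (toConv (AlgHom.id k A) * (toConv p)⁻¹).ofConv
  have hpψ : p.comp (ψ : B →ₐ[k] A) = (ψ : B →ₐ[k] A) := AlgHom.ext fun b => congrArg ψ (hr b)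
  have hphiψ : phi.comp (ψ : B →ₐ[k] A) = (1 : WithConv (B →ₐ[k] A)).ofConv := by
    show AlgHom.comp _ _ = _
    rw [AlgHom.convMul_comp_bialgHom_distrib]
    simp only [ofConv_toConv, AlgHom.id_comp]
    rw [show ((toConv p)⁻¹).ofConv.comp (ψ : B →ₐ[k] A) = ((toConv (ψ : B →ₐ[k] A))⁻¹).ofConv from by
      show (p.comp (HopfAlgebra.antipodeAlgHom k A)).comp (ψ : B →ₐ[k] A) =
        (ψ : B →ₐ[k] A).comp (HopfAlgebra.antipodeAlgHom k B)
      rw [AlgHom.comp_assoc, show (HopfAlgebra.antipodeAlgHom k A).comp (ψ : B →ₐ[k] A) =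
        (ψ : B →ₐ[k] A).comp (HopfAlgebra.antipodeAlgHom k B) from AlgHom.ext fun b =>
          GrpSchLib.HopfGalois.antipode_bialgHom ψ b, ← AlgHom.comp_assoc, hpψ]]
    exact congrArg WithConv.ofConv (mul_inv_cancel (toConv (ψ : B →ₐ[k] A)))
  have hεphi : (Bialgebra.counitAlgHom k A).comp phi = Bialgebra.counitAlgHom k A := by
    show AlgHom.comp _ _ = _
    rw [AlgHom.comp_convMul_distrib]
    simp only [ofConv_toConv, AlgHom.comp_id]
    show (toConv (Bialgebra.counitAlgHom k A) *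
      toConv ((Bialgebra.counitAlgHom k A).comp (p.comp (HopfAlgebra.antipodeAlgHom k A)))).ofConv = _
    rw [← AlgHom.comp_assoc, show (Bialgebra.counitAlgHom k A).comp p = Bialgebra.counitAlgHom k A from
      AlgHom.ext fun x => CoalgHomClass.counit_comp_apply pc x]
    exact congrArg WithConv.ofConv (mul_inv_cancel (toConv (Bialgebra.counitAlgHom k A))) |>.trans rfl
  have hπphi : π.comp phi = π := by
    show AlgHom.comp _ _ = _
    rw [AlgHom.comp_convMul_distrib]
    simp only [ofConv_toConv, AlgHom.comp_id]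
    show (toConv π * toConv (π.comp (p.comp (HopfAlgebra.antipodeAlgHom k A)))).ofConv = π
    rw [← AlgHom.comp_assoc, show π.comp p = (1 : WithConv (A →ₐ[k] A ⧸ J)).ofConv from AlgHom.ext fun x =>
      (AlgHom.congr_fun (mk_comp ψ J hJ) (r x)).trans (congrArg (algebraMap k (A ⧸ J)) (CoalgHomClass.counit_comp_apply r x))]
    show (toConv π * (1 : WithConv (A →ₐ[k] A ⧸ J))⁻¹).ofConv = π
    rw [inv_one, mul_one, ofConv_toConv]
  -- the comultiplication of `phi`
  let L : A →ₐ[k] A ⊗[k] A := Algebra.TensorProduct.includeLeft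
  let R : A →ₐ[k] A ⊗[k] A := Algebra.TensorProduct.includeRight
  let L' : B →ₐ[k] B ⊗[k] A := Algebra.TensorProduct.includeLeft
  let R' : A →ₐ[k] B ⊗[k] A := Algebra.TensorProduct.includeRight
  let Q₀ : A →ₐ[k] B ⊗[k] A :=
    (toConv (L'.comp (r : A →ₐ[k] B)) * toConv R' * (toConv (L'.comp (r : A →ₐ[k] B)))⁻¹).ofConv
  let μ : B ⊗[k] A →ₐ[k] A ⊗[k] A := Algebra.TensorProduct.map (ψ : B →ₐ[k] A) phi
  have hQ : toConv (μ.comp Q₀) = toConv (L.comp p) * toConv (R.comp phi) * (toConv (L.comp p))⁻¹ := by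
    show toConv (AlgHom.comp μ _) = _
    rw [AlgHom.comp_convMul_distrib, AlgHom.comp_convMul_distrib, toConv_ofConv]
    simp only [ofConv_toConv, toConv_ofConv]
    have e1 : μ.comp (L'.comp (r : A →ₐ[k] B)) = L.comp p := AlgHom.ext fun x => by
      show μ (r x ⊗ₜ[k] (1 : A)) = _
      rw [Algebra.TensorProduct.map_tmul, map_one]; rfl
    have e2 : μ.comp R' = R.comp phi := AlgHom.ext fun x => by
      show μ ((1 : B) ⊗ₜ[k] x) = _
      rw [Algebra.TensorProduct.map_tmul, map_one]; rfl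
    rw [e1, e2]
    congr 1
    show toConv (μ.comp ((L'.comp (r : A →ₐ[k] B)).comp (HopfAlgebra.antipodeAlgHom k A))) = _
    rw [← AlgHom.comp_assoc, e1]
    rfl
  have hLphi : toConv (L.comp phi) = toConv L * (toConv (L.comp p))⁻¹ := by
    show toConv (AlgHom.comp L _) = _
    rw [AlgHom.comp_convMul_distrib]
    rfl
  have hRphi : toConv (R.comp phi) = toConv R * (toConv (R.comp p))⁻¹ := by
    show toConv (AlgHom.comp R _) = _
    rw [AlgHom.comp_convMul_distrib]
    rfl
  have hΔp : toConv ((Bialgebra.comulAlgHom k A).comp p) = toConv (L.comp p) * toConv (R.comp p) := by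
    have h := AlgHom.convMul_comp_bialgHom_distrib (toConv L) (toConv R) pc
    rw [← comulAlgHom_eq] at h
    exact congrArg toConv h
  have hΔphi : toConv ((Bialgebra.comulAlgHom k A).comp phi) = toConv (L.comp phi) * toConv (μ.comp Q₀) := by
    have h : toConv ((Bialgebra.comulAlgHom k A).comp phi) =
        toConv (Bialgebra.comulAlgHom k A) * (toConv ((Bialgebra.comulAlgHom k A).comp p))⁻¹ := by
      show toConv (AlgHom.comp _ _) = _
      rw [AlgHom.comp_convMul_distrib]
      rfl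
    rw [h, hΔp, comulAlgHom_eq, hLphi, hQ, hRphi]
    exact conv_identity (toConv L) (toConv R) (toConv (L.comp p)) (toConv (R.comp p))
  have hker : ∀ f : A →ₐ[k] A ⊗[k] A, f.comp (ψ : B →ₐ[k] A) = (1 : WithConv (B →ₐ[k] A ⊗[k] A)).ofConv →
      ∀ z ∈ J, f z = 0 := by
    intro f hf z hz
    rw [hJ] at hz
    refine (Ideal.map_le_iff_le_comap.mpr fun b hb => ?_ : _ ≤ RingHom.ker f) hz
    show f (ψ b) = 0
    rw [show f (ψ b) = algebraMap k _ (Coalgebra.counit (R := k) b) from AlgHom.congr_fun hf b,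
      show Coalgebra.counit (R := k) b = (0 : k) from hb, map_zero]
  have hf1 : (L.comp phi).comp (ψ : B →ₐ[k] A) = (1 : WithConv (B →ₐ[k] A ⊗[k] A)).ofConv := AlgHom.ext fun b => by
    show L (phi (ψ b)) = _
    rw [show phi (ψ b) = (1 : WithConv (B →ₐ[k] A)).ofConv b from AlgHom.congr_fun hphiψ b]
    exact L.commutes _
  have hf2 : (μ.comp Q₀).comp (ψ : B →ₐ[k] A) = (1 : WithConv (B →ₐ[k] A ⊗[k] A)).ofConv := by
    have h := congrArg (fun f : WithConv (A →ₐ[k] A ⊗[k] A) => f.ofConv.comp (ψ : B →ₐ[k] A)) hQ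
    simp only [ofConv_toConv, AlgHom.convMul_comp_bialgHom_distrib] at h
    rw [h]
    have e1 : (R.comp phi).comp (ψ : B →ₐ[k] A) = (1 : WithConv (B →ₐ[k] A ⊗[k] A)).ofConv := AlgHom.ext fun b => by
      show R (phi (ψ b)) = _
      rw [show phi (ψ b) = (1 : WithConv (B →ₐ[k] A)).ofConv b from AlgHom.congr_fun hphiψ b]
      exact R.commutes _
    rw [e1, toConv_ofConv, mul_one]
    show (toConv ((L.comp p).comp (ψ : B →ₐ[k] A)) *
      toConv (((L.comp p).comp (HopfAlgebra.antipodeAlgHom k A)).comp (ψ : B →ₐ[k] A))).ofConv = _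
    rw [AlgHom.comp_assoc (HopfAlgebra.antipodeAlgHom k A |> (L.comp p).comp |> fun _ => L.comp p),
      show (HopfAlgebra.antipodeAlgHom k A).comp (ψ : B →ₐ[k] A) =
        (ψ : B →ₐ[k] A).comp (HopfAlgebra.antipodeAlgHom k B) from AlgHom.ext fun b =>
          GrpSchLib.HopfGalois.antipode_bialgHom ψ b, ← AlgHom.comp_assoc]
    exact congrArg WithConv.ofConv (mul_inv_cancel (toConv ((L.comp p).comp (ψ : B →ₐ[k] A))))
  let x := phi a
  let w := Q₀ a
  have hΔx : Coalgebra.comul (R := k) x = x ⊗ₜ[k] (1 : A) + μ w := by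
    have h := congrArg (fun f : WithConv (A →ₐ[k] A ⊗[k] A) => f.ofConv a) hΔphi
    simp only [ofConv_toConv] at h
    refine Eq.trans h ?_
    rw [AlgHom.convMul_apply]
    let f₁ : A ⧸ J →ₐ[k] A ⊗[k] A := Ideal.Quotient.liftₐ J (L.comp phi) (hker _ hf1)
    let f₂ : A ⧸ J →ₐ[k] A ⊗[k] A := Ideal.Quotient.liftₐ J (μ.comp Q₀) (hker _ hf2)
    have e : ∀ z : A ⊗[k] A, Algebra.TensorProduct.lift (toConv (L.comp phi)).ofConv (toConv (μ.comp Q₀)).ofConv
        (fun _ _ => Commute.all _ _) z = Algebra.TensorProduct.lift f₁ f₂ (fun _ _ => Commute.all _ _)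
        (Algebra.TensorProduct.map π π z) := by
      intro z
      induction z using TensorProduct.induction_on with
      | zero => simp
      | tmul c d => rfl
      | add c d hc hd => simp only [map_add, hc, hd]
    rw [e, show Algebra.TensorProduct.map π π (Coalgebra.comul (R := k) a) = Coalgebra.comul (R := k) (π a) from
      CoalgHomClass.map_comp_comul_apply (Bialgebra.Quotient.mkBialgHom J : A →ₐc[k] A ⧸ J) a, ha, map_add,
      Algebra.TensorProduct.lift_tmul, Algebra.TensorProduct.lift_tmul, map_one, map_one, mul_one, one_mul]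
    rfl
  -- the weight components
  let e : Module.Basis {g : B | IsGroupLikeElem k g} k B :=
    Module.Basis.mk linearIndepOn_isGroupLikeElem (by simp [hB])
  have he : ∀ g, e g = g.1 := fun g => Module.Basis.mk_apply _ _ g
  let z := TensorProduct.equivFinsuppOfBasisLeft e w
  let y : {g : B | IsGroupLikeElem k g} → A := fun i => phi (z i)
  have hw : w = ∑ i ∈ z.support, e i ⊗ₜ[k] z i := by
    conv_lhs => rw [← (TensorProduct.equivFinsuppOfBasisLeft e).symm_apply_apply w,
      TensorProduct.equivFinsuppOfBasisLeft_symm_apply]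
    rfl
  have hsum : Coalgebra.comul (R := k) x = x ⊗ₜ[k] (1 : A) + ∑ i ∈ z.support, ψ i.1 ⊗ₜ[k] y i := by
    rw [hΔx, hw, map_sum]
    refine congrArg _ (Finset.sum_congr rfl fun i _ => ?_)
    show ψ (e i) ⊗ₜ[k] phi (z i) = _
    rw [he]
  obtain ⟨σ, hσ⟩ := (ψ : B →ₐ[k] A).toLinearMap.exists_leftInverse_of_injective (LinearMap.ker_eq_bot.mpr hψ)
  have hgl : ∀ i : {g : B | IsGroupLikeElem k g}, Coalgebra.comul (R := k) (ψ i.1) = ψ i.1 ⊗ₜ[k] ψ i.1 := fun i => by
    rw [← CoalgHomClass.map_comp_comul_apply ψ, i.2.comul_eq_tmul_self, TensorProduct.map_tmul]; rfl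
  refine ⟨_, z.support, fun i => i.1, y, fun i hi => ⟨i.2, ?_⟩, ?_⟩
  · let lam : A →ₗ[k] k := e.coord i ∘ₗ σ
    have hlam : ∀ j : {g : B | IsGroupLikeElem k g}, lam (ψ j.1) = if j = i then 1 else 0 := fun j => by
      rw [show lam (ψ j.1) = e.coord i j.1 from congrArg (e.coord i) (LinearMap.congr_fun hσ j.1), ← he j,
        Module.Basis.coord_apply, Module.Basis.repr_self, Finsupp.single_apply]
    have hco := congrArg (fun q => TensorProduct.lid k (A ⊗[k] A) (lam.rTensor (A ⊗[k] A) q))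
      (LinearMap.congr_fun (Coalgebra.coassoc (R := k) (A := A)) x)
    simp only [LinearMap.comp_apply, LinearEquiv.coe_coe, hsum, map_add, map_sum, LinearMap.rTensor_tmul,
      LinearMap.lTensor_tmul, hgl, TensorProduct.add_tmul, TensorProduct.sum_tmul, TensorProduct.assoc_tmul,
      TensorProduct.lid_tmul, hlam, ite_smul, one_smul, zero_smul, Finset.sum_ite_eq', if_pos hi,
      Bialgebra.comul_one, Algebra.TensorProduct.one_def] at hco
    rw [add_assoc] at hco
    exact (add_left_cancel hco).symm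
  · have h := congrArg (fun q => TensorProduct.lid k A ((Coalgebra.counit (R := k) (A := A)).rTensor A q)) hsum
    simp only [Coalgebra.rTensor_counit_comul, TensorProduct.lid_tmul, one_smul, map_add, map_sum,
      LinearMap.rTensor_tmul] at h
    have hεx : Coalgebra.counit (R := k) x = (0 : k) := (AlgHom.congr_fun hεphi a).trans hε
    rw [hεx, zero_smul, zero_add, Finset.sum_congr rfl (fun i _ => by
      rw [CoalgHomClass.counit_comp_apply, i.2.counit_eq_one, one_smul])] at h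
    rw [← AlgHom.congr_fun hπphi a, AlgHom.comp_apply, show phi a = x from rfl, h, map_sum]

/-- A skew-primitive element which is good for descending smoothness. -/
theorem exists_good_skew [IsAlgClosed k] [Algebra.FiniteType k A]
    (hB : Submodule.span k {g : B | IsGroupLikeElem k g} = ⊤) (ψ : B →ₐc[k] A)
    (hψ : Function.Injective ψ) (r : A →ₐc[k] B) (hr : ∀ b, r (ψ b) = b) (J : Ideal A) [J.IsHopfIdeal k]
    (hJ : J = Ideal.map (ψ : B →+* A) (RingHom.ker (Bialgebra.counitAlgHom k B))) [_root_.IsReduced (A ⧸ J)] :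
    ∀ (N : ℕ) (g : B) (y : A), IsGroupLikeElem k g →
      Coalgebra.comul (R := k) y = y ⊗ₜ[k] (1 : A) + ψ g ⊗ₜ[k] y →
      Ideal.Quotient.mkₐ k J y ∉ RingHom.ker (Bialgebra.counitAlgHom k (A ⧸ J)) ^ N →
      ∃ (g' : B) (y' : A), IsGroupLikeElem k g' ∧
        Coalgebra.comul (R := k) y' = y' ⊗ₜ[k] (1 : A) + ψ g' ⊗ₜ[k] y' ∧
        Ideal.Quotient.mkₐ k J y' ∉ RingHom.ker (Bialgebra.counitAlgHom k (A ⧸ J)) ^ 2 := by
  intro N
  induction N using Nat.strong_induction_on with
  | _ N ih =>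
    intro g y hg hy hN
    set π := Ideal.Quotient.mkₐ k J
    set m := RingHom.ker (Bialgebra.counitAlgHom k (A ⧸ J))
    by_cases h2 : π y ∈ m ^ 2
    swap
    · exact ⟨g, y, hg, hy, h2⟩
    have hN3 : 2 < N := by
      by_contra hcon
      exact hN (Ideal.pow_le_pow_right (not_lt.mp hcon) h2)
    haveI : Algebra.FiniteType k (A ⧸ J) := Algebra.FiniteType.of_surjective π Ideal.Quotient.mk_surjective
    have hprim : Coalgebra.comul (R := k) (π y) = π y ⊗ₜ[k] (1 : A ⧸ J) + (1 : A ⧸ J) ⊗ₜ[k] π y := by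
      show Algebra.TensorProduct.map π π (Coalgebra.comul (R := k) y) = _
      rw [hy, map_add, Algebra.TensorProduct.map_tmul, Algebra.TensorProduct.map_tmul, map_one,
        show π (ψ g) = algebraMap k (A ⧸ J) (Coalgebra.counit (R := k) g) from AlgHom.congr_fun (mk_comp ψ J hJ) g,
        hg.counit_eq_one, map_one]
    obtain ⟨p, s, hp, _, hs, hsp⟩ := exists_root hprim h2 hN
    have hsN : s ∉ m ^ (N - 1) := fun h => hN (by
      have := Ideal.pow_mem_pow h p
      rw [← pow_mul, hsp] at this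
      refine Ideal.pow_le_pow_right ?_ this
      calc N ≤ (N - 1) * 2 := by omega
        _ ≤ (N - 1) * p := Nat.mul_le_mul le_rfl hp.two_le)
    obtain ⟨a, ha⟩ := Ideal.Quotient.mk_surjective s
    change π a = s at ha
    have hεs : Bialgebra.counitAlgHom k (A ⧸ J) s = 0 := by
      refine eq_zero_of_pow_eq_zero (n := p) ?_
      rw [← map_pow, hsp]
      exact Ideal.pow_le_self two_ne_zero h2
    have hεa : Coalgebra.counit (R := k) a = (0 : k) := by
      rw [← CoalgHomClass.counit_comp_apply (Bialgebra.Quotient.mkBialgHom J : A →ₐc[k] A ⧸ J) a,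
        show (Bialgebra.Quotient.mkBialgHom J : A →ₐc[k] A ⧸ J) a = s from ha]
      exact hεs
    obtain ⟨ι, S, h, w, hw, hsum⟩ := exists_skew_decomp hB ψ hψ r hr J hJ a hεa (by
      show Coalgebra.comul (R := k) (π a) = _
      rw [ha, hs])
    obtain ⟨i, hi, hiN⟩ : ∃ i ∈ S, π (w i) ∉ m ^ (N - 1) := by
      by_contra! hcon
      refine hsN ?_
      rw [← ha, hsum]
      exact Submodule.sum_mem _ hcon
    exact ih (N - 1) (by omega) (h i) (w i) (hw i hi).1 (hw i hi).2 hiN

end Groth.Agent.UnipExt
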